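import Cfsg.Agent.Phan.Cover

/-!
# Triangles lift through a map of `SU_4`
-/

set_option autoImplicit false
set_option linter.unusedSectionVars false

namespace CfsgLib.Phan

open CfsgLib.RepBounds.Unit Matrix

variable {F : Type*} [Field F] [Fintype F] {C : ConjField F} {k : ℕ}

variable (C) in
/-- Membership in the image of the first four coordinates. -/
def InWFour (g : suG C (Fin (k + 1))) (z : Fin (k + 1) → F) : Prop :=
  ∀ i : Fin (k + 1), 4 ≤ (i : ℕ) → app C g⁻¹ z i = 0

theorem InWFour.add {g : suG C (Fin (k + 1))} {y z : Fin (k + 1) → F} (hy : InWFour C g y)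
    (hz : InWFour C g z) : InWFour C g (y + z) :=
  fun i hi => by rw [app_add, Pi.add_apply, hy i hi, hz i hi, add_zero]

theorem InWFour.smul {g : suG C (Fin (k + 1))} {z : Fin (k + 1) → F} (a : F) (hz : InWFour C g z) :
    InWFour C g (a • z) := fun i hi => by rw [app_smul, Pi.smul_apply, hz i hi, smul_zero]

theorem inWFour_basv (g : suG C (Fin (k + 1))) {i : ℕ} (hi : i < 4) :
    InWFour C g (app C g (basv (k + 1) i)) := fun j hj => by
  rw [app_inv_app]
  exact if_neg (by omega)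

theorem exists_frame_four (hq : 3 ≤ C.q) (hk : 4 ≤ k) {f₀ f₁ f₂ f₃ : Fin (k + 1) → F}
    (h₀ : herm C f₀ f₀ = 1) (h₁ : herm C f₁ f₁ = 1) (h₂ : herm C f₂ f₂ = 1) (h₃ : herm C f₃ f₃ = 1)
    (h₁₀ : herm C f₁ f₀ = 0) (h₂₀ : herm C f₂ f₀ = 0) (h₂₁ : herm C f₂ f₁ = 0)
    (h₃₀ : herm C f₃ f₀ = 0) (h₃₁ : herm C f₃ f₁ = 0) (h₃₂ : herm C f₃ f₂ = 0) :
    ∃ g : suG C (Fin (k + 1)), app C g (basv (k + 1) 0) = f₀ ∧ app C g (basv (k + 1) 1) = f₁ ∧
      app C g (basv (k + 1) 2) = f₂ ∧ app C g (basv (k + 1) 3) = f₃ := by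
  obtain ⟨g, g0, g1, g2⟩ := exists_frame_triple C hq (by omega) h₀ h₁ h₂ h₁₀ h₂₀ h₂₁
  set u := app C g⁻¹ f₃ with hu
  have hz : ∀ (i : ℕ) (hi : i < k + 1) (f : Fin (k + 1) → F), app C g (basv (k + 1) i) = f →
      herm C f₃ f = 0 → u ⟨i, hi⟩ = 0 := fun i hi f hf h => by
    rw [← herm_basv_right C u hi, hu, herm_app_left, hf, h]
  have h3 : 3 + (k - 2) ≤ k + 1 := by omega
  have hdec : u = extVec (win (k + 1) 3 (k - 2) h3) (u ∘ win (k + 1) 3 (k - 2) h3) := by
    refine eq_extVec h3 u fun i hi => ?_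
    rcases (show (i : ℕ) = 0 ∨ (i : ℕ) = 1 ∨ (i : ℕ) = 2 by omega) with h | h | h
    · rw [show i = ⟨0, by omega⟩ from Fin.ext h]; exact hz 0 _ _ g0 h₃₀
    · rw [show i = ⟨1, by omega⟩ from Fin.ext h]; exact hz 1 _ _ g1 h₃₁
    · rw [show i = ⟨2, by omega⟩ from Fin.ext h]; exact hz 2 _ _ g2 h₃₂
  obtain ⟨y, hy⟩ := exists_move C hq (d := k - 2) (by omega) (v := u ∘ win (k + 1) 3 (k - 2) h3)
    (by rw [← herm_extVec C (win (k + 1) 3 (k - 2) h3), ← hdec, hu, herm_app, h₃])
  refine ⟨g * wext C 3 h3 y, ?_, ?_, ?_, ?_⟩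
  · rw [app_mul, wext_basv_out C h3 (Or.inl (by omega)), g0]
  · rw [app_mul, wext_basv_out C h3 (Or.inl (by omega)), g1]
  · rw [app_mul, wext_basv_out C h3 (Or.inl (by omega)), g2]
  · rw [app_mul, show (basv (k + 1) 3 : Fin (k + 1) → F) = basv _ (3 + 0) from rfl,
      wext_basv C h3 (by omega), hy, ← hdec, hu, app_app_inv]

/-- A triangle lies in a non-degenerate four-space. -/
theorem exists_inWFour (hq : 3 ≤ C.q) (hk : 4 ≤ k) {u v w : Fin (k + 1) → F}
    (hu : herm C u u = 1) (hv : herm C v v = 1) (huv : Adj C u v) :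
    ∃ g : suG C (Fin (k + 1)), InWFour C g u ∧ InWFour C g v ∧ InWFour C g w := by
  have hv' : herm C (rem C u v) (rem C u v) ≠ 0 := by
    rw [norm_rem C hu, hv]
    exact sub_ne_zero.2 (Ne.symm (Adj.symm C huv))
  obtain ⟨b, hb, -, hf⟩ := exists_unit_smul C hv'
  set f := b⁻¹ • rem C u v with hfdef
  have hfu : herm C f u = 0 := by rw [hfdef, herm_smul_left, herm_rem C hu, mul_zero]
  have hvdec : v = herm C v u • u + b • f := by
    rw [hfdef, smul_smul, mul_inv_cancel₀ hb, one_smul, rem]; abel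
  set r := rem C f (rem C u w) with hrdef
  by_cases hr : r = 0 ∨ herm C r r ≠ 0
  · obtain ⟨g, a, b', c⟩ := good_of_rem C hq (by omega) hu hf hfu ⟨_, _, hvdec⟩ hr
    exact ⟨g, fun i hi => a i (by omega), fun i hi => b' i (by omega), fun i hi => c i (by omega)⟩
  push Not at hr
  obtain ⟨hrne, hrr⟩ := hr
  have hru : herm C r u = 0 := (herm_rem_two C (w := w) hu hf hfu).1
  have hrf : herm C r f = 0 := (herm_rem_two C (w := w) hu hf hfu).2
  obtain ⟨s, hrs, hss, hsu, hsf⟩ := exists_partner C hq (by omega) hu hf hfu hru hrf hrne hrr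
  obtain ⟨t, ht⟩ := exists_tr_eq C (c := (1 : F)) (map_one C.σ)
  have ht0 : t ≠ 0 := fun h => by rw [h, map_zero, add_zero] at ht; exact zero_ne_one ht
  set f₁ := r + t • s with hf₁
  have h11 : herm C f₁ f₁ = 1 := by
    simp only [hf₁, herm_add_left, herm_add_right, herm_smul_left, herm_smul_right, hrr, hss, hrs,
      show herm C s r = 1 by rw [← conj_herm, hrs, map_one]]
    linear_combination ht
  have h1u : herm C f₁ u = 0 := by
    rw [hf₁, herm_add_left, herm_smul_left, hru, hsu, mul_zero, add_zero]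
  have h1f : herm C f₁ f = 0 := by
    rw [hf₁, herm_add_left, herm_smul_left, hrf, hsf, mul_zero, add_zero]
  have hrf₁ : herm C r f₁ = C.σ t := by
    rw [hf₁, herm_add_right, herm_smul_right, hrr, hrs, mul_one, zero_add]
  have hz : herm C (rem C f₁ r) (rem C f₁ r) ≠ 0 := by
    rw [norm_rem C h11, hrr, hrf₁, nm_conj, zero_sub]
    exact neg_ne_zero.2 fun h => ht0 ((nm_eq_zero C).1 h)
  obtain ⟨c, hc, -, h22⟩ := exists_unit_smul C hz
  obtain ⟨g, g0, g1, g2, g3⟩ := exists_frame_four hq hk hu hf h11 h22 hfu h1u h1f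
    (by rw [herm_smul_left, rem, herm_sub_left, herm_smul_left, hru, h1u]; ring)
    (by rw [herm_smul_left, rem, herm_sub_left, herm_smul_left, hrf, h1f]; ring)
    (by rw [herm_smul_left, herm_rem C h11, mul_zero])
  have iu : InWFour C g u := g0 ▸ inWFour_basv g (by omega)
  have if' : InWFour C g f := g1 ▸ inWFour_basv g (by omega)
  have hdec : r = c • (c⁻¹ • rem C f₁ r) + herm C r f₁ • f₁ := by
    rw [smul_smul, mul_inv_cancel₀ hc, one_smul, rem, sub_add_cancel]
  have ir : InWFour C g r := by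
    rw [hdec, ← g3, ← g2]
    exact ((inWFour_basv g (by omega)).smul _).add ((inWFour_basv g (by omega)).smul _)
  refine ⟨g, iu, by rw [hvdec]; exact (iu.smul _).add (if'.smul _), ?_⟩
  rw [show w = herm C w u • u + herm C (rem C u w) f • f + r by rw [hrdef]; unfold rem; abel]
  exact ((iu.smul _).add (if'.smul _)).add ir

variable {G : Type*} [Group G]

/-- A step with a map of `SU_4` on the first four coordinates. -/
structure StepFour (S : StepData C G k) where
  /-- the map on the first four coordinates -/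
  ψ4 : suG C (Fin 4) →* G
  hk4 : 4 ≤ k
  agree0 : ∀ x, ψ4 (wext C 0 (by omega : 0 + 3 ≤ 4) x) = S.ψ x
  agree1 : ∀ y, ψ4 (wext C 1 (by omega : 1 + 3 ≤ 4) y) = S.h (wext C 0 (by have := S.hk; omega : 0 + 3 ≤ k) y)

namespace StepFour

variable {S : StepData C G k} (T : StepFour S)

theorem le_four (T : StepFour S) : 0 + 4 ≤ k + 1 := by have := T.hk4; omega

/-- The graph on the first four coordinates. -/
noncomputable def k4 : suG C (Fin 4) →* G × suG C (Fin (k + 1)) :=
  T.ψ4.prod (wext C 0 T.le_four)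

theorem k4_up (g : suG C (Fin 2)) : T.k4 (wext C 0 (by omega : 0 + 2 ≤ 4) g) = S.up g := by
  refine Prod.ext ?_ ?_
  · show T.ψ4 _ = S.ψ (wext C 0 _ g)
    rw [← T.agree0, wext_wext]
  · rw [S.up_snd]
    show wext C 0 T.le_four (wext C 0 _ g) = _
    rw [wext_wext]

theorem k4_tail (y : suG C (Fin 3)) :
    T.k4 (wext C 1 (by omega : 1 + 3 ≤ 4) y) =
      S.tl (wext C 0 (by have := S.hk; omega : 0 + 3 ≤ k) y) := by
  refine Prod.ext (T.agree1 y) ?_
  show wext C 0 T.le_four (wext C 1 _ y) = wext C 1 StepData.le_tail (wext C 0 _ y)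
  rw [wext_wext, wext_wext]

theorem app_torus {a : F} (ha : nm C a + nm C 0 = 1) :
    app C (wext C 0 (by omega : 0 + 2 ≤ 4) (suTwo C a 0 ha)) (basv 4 0) = a • basv 4 0 := by
  rw [show (basv 4 0 : Fin 4 → F) = basv 4 (0 + 0) from rfl, wext_basv C _ (by omega), app_suTwo_zero]
  funext l
  by_cases hl : l ∈ Set.range (win 4 0 2 (by omega))
  · obtain ⟨j, rfl⟩ := hl
    rw [extVec_mem]
    fin_cases j <;> simp [basv, win_apply]
  · rw [extVec_not_mem _ _ hl]
    rw [mem_range_win] at hl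
    simp [basv, show ¬ (l : ℕ) = 0 by omega]

theorem k4_stab {x : suG C (Fin 4)} {a : F} (hx : app C x (basv 4 0) = a • basv 4 0) :
    T.k4 x ∈ S.stab := by
  have he : herm C (basv 4 0 : Fin 4 → F) (basv 4 0) = 1 := herm_basv_self C (by omega)
  have ha : nm C a + nm C 0 = 1 := by
    rw [nm_zero, add_zero]
    exact nm_of_unit_smul C (by rw [herm_app]; exact he) he hx
  set t : suG C (Fin 4) := wext C 0 (by omega : 0 + 2 ≤ 4) (suTwo C a 0 ha) with ht
  obtain ⟨y, hy⟩ := exists_tail C (k := 3) (by omega) (g := t⁻¹ * x) (by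
    rw [app_mul, hx, ← app_torus (C := C) ha, app_inv_app])
  rw [show x = t * wext C 1 (by omega : 1 + 3 ≤ 4) y by rw [hy, mul_inv_cancel_left], map_mul, ht,
    T.k4_up, T.k4_tail]
  exact mul_mem (S.torus_mem ha) (S.tl_mem _)

theorem edge_k4_base {x : suG C (Fin 4)} (hadj : Adj C S.e₀ (S.pv (T.k4 x))) :
    S.Edge 1 (T.k4 x) := by
  have hk := T.hk4
  set v := app C x (basv 4 0) with hv
  have hpv : S.pv (T.k4 x) = extVec (win (k + 1) 0 4 T.le_four) v := by
    show app C (wext C 0 T.le_four x) (basv (k + 1) (0 + 0)) = _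
    rw [wext_basv C _ (by omega)]
  have hvv : herm C v v = 1 := by rw [hv, herm_app, herm_basv_self C (by omega)]
  set v' := v ∘ win 4 1 3 (by omega) with hv'
  have hsum : nm C (v 0) + herm C v' v' = 1 := by rw [← hvv, herm_split C (k := 3) v v]; rfl
  have hv0 : nm C (v 0) ≠ 1 := by
    intro h0
    refine hadj ?_
    rw [← conj_herm, nm_conj, StepData.e₀, herm_basv_right C _ (Nat.succ_pos k), hpv,
      show (⟨0, Nat.succ_pos k⟩ : Fin (k + 1)) = win (k + 1) 0 4 T.le_four 0 from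
      Fin.ext (by simp [win_apply]), extVec_mem]
    exact h0
  obtain ⟨b, hb, hnb, hu⟩ := exists_unit_smul C (z := v') (fun h0 => hv0 (by
    rw [h0, add_zero] at hsum; exact hsum))
  obtain ⟨y, hy⟩ := S.move (by omega : 2 ≤ 3) hu
  have hab : nm C (v 0) + nm C b = 1 := by rw [hnb]; exact hsum
  set x' := wext C 1 (by omega : 1 + 3 ≤ 4) y * wext C 0 (by omega : 0 + 2 ≤ 4) (suTwo C (v 0) b hab)
    with hx'
  have hxv : app C x' (basv 4 0) = v := by
    rw [hx', app_mul, show (basv 4 0 : Fin 4 → F) = basv 4 (0 + 0) from rfl, wext_basv C _ (by omega),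
      app_suTwo_zero]
    have hdec : extVec (win 4 0 2 (by omega)) ![v 0, b] =
        v 0 • (basv 4 0 : Fin 4 → F) + b • basv 4 (1 + 0) := by
      funext i
      by_cases hi : i ∈ Set.range (win 4 0 2 (by omega))
      · obtain ⟨j, rfl⟩ := hi
        rw [extVec_mem]
        fin_cases j <;> simp [basv, win_apply]
      · rw [extVec_not_mem _ _ hi]
        rw [mem_range_win] at hi
        simp [basv, show ¬ (i : ℕ) = 0 by omega, show ¬ (i : ℕ) = 1 by omega]
    rw [hdec, app_add, app_smul, app_smul, wext_basv_out C _ (Or.inl (by omega)),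
      wext_basv C _ (by omega), hy]
    funext i
    by_cases hi : i ∈ Set.range (win 4 1 3 (by omega))
    · obtain ⟨j, rfl⟩ := hi
      simp only [Pi.add_apply, Pi.smul_apply, extVec_mem, smul_eq_mul]
      rw [show (basv 4 0 : Fin 4 → F) (win 4 1 3 (by omega) j) = 0 from
        if_neg (by rw [win_apply]; omega), mul_zero, zero_add, ← mul_assoc, mul_inv_cancel₀ hb,
        one_mul]
      rfl
    · simp only [Pi.add_apply, Pi.smul_apply, extVec_not_mem _ _ hi, smul_zero, add_zero]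
      rw [mem_range_win] at hi
      rw [show i = 0 from Fin.ext (show (i : ℕ) = 0 by omega)]
      simp [basv]
  have hst : S.Equ (T.k4 x') (T.k4 x) := by
    show (T.k4 x')⁻¹ * T.k4 x ∈ S.stab
    rw [← map_inv, ← map_mul]
    refine T.k4_stab (a := 1) ?_
    rw [app_mul, ← hv, ← hxv, app_inv_app, one_smul]
  refine StepData.Edge.congr_right
    ⟨?_, T.k4 (wext C 1 (by omega : 1 + 3 ≤ 4) y), suTwo C (v 0) b hab, ?_, ?_⟩ hst
  · rw [S.pv_one]
    have : S.pv (T.k4 x') = S.pv (T.k4 x) := by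
      rw [hpv]
      show app C (wext C 0 T.le_four x') (basv (k + 1) (0 + 0)) = _
      rw [wext_basv C _ (by omega), hxv]
    rw [this]
    exact hadj
  · show (1 : G × suG C (Fin (k + 1)))⁻¹ * _ ∈ S.stab
    rw [inv_one, one_mul, T.k4_tail]
    exact S.tl_mem _
  · rw [hx', map_mul, T.k4_up]
    exact StepData.Equ.refl S _

theorem four_base (T : StepFour S) {q r : G × suG C (Fin (k + 1))} (hq : S.Edge 1 q)
    (hr : S.Edge 1 r) (hqr : Adj C (S.pv q) (S.pv r))
    (hgood : ∃ g, InWFour C g S.e₀ ∧ InWFour C g (S.pv q) ∧ InWFour C g (S.pv r)) :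
    S.Edge q r := by
  have hk := T.hk4
  obtain ⟨g, g0, gq, gr⟩ := hgood
  set w := app C g⁻¹ S.e₀ with hw
  have hwdec : w = extVec (win (k + 1) 0 4 T.le_four) (w ∘ win (k + 1) 0 4 T.le_four) :=
    eq_extVec _ w fun i hi => g0 i (by omega)
  obtain ⟨x, hx⟩ := S.move (by omega : 2 ≤ 4)
    (v := w ∘ win (k + 1) 0 4 T.le_four) (by
      rw [← herm_extVec C (win (k + 1) 0 4 T.le_four), ← hwdec, hw, herm_app, StepData.e₀,
        herm_basv_self C (by omega)])
  set g1 := g * wext C 0 T.le_four x with hg1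
  have hg1e : app C g1 S.e₀ = S.e₀ := by
    rw [hg1, app_mul, StepData.e₀, show (basv (k + 1) 0 : Fin (k + 1) → F) = basv _ (0 + 0) from rfl,
      wext_basv C _ (by omega), hx, ← hwdec, hw, app_app_inv]
    rfl
  obtain ⟨y, hy⟩ := exists_tail C (k := k) (by omega) (g := g1) hg1e
  set b := S.tl y with hb
  have hb2 : b.2 = g1 := hy
  have key : ∀ p : G × suG C (Fin (k + 1)), S.Edge 1 p → InWFour C g (S.pv p) →
      ∃ x : suG C (Fin 4), S.Equ (b⁻¹ * p) (T.k4 x) := by
    intro p hp hpW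
    have hE : S.Edge 1 (b⁻¹ * p) := by
      refine (hp.mul_left b⁻¹).congr_left ?_
      show (b⁻¹ * 1)⁻¹ * 1 ∈ S.stab
      rw [mul_one, mul_one, inv_inv]
      exact S.tl_mem y
    set v := S.pv (b⁻¹ * p) with hv
    have hdec : v = extVec (win (k + 1) 0 4 T.le_four) (v ∘ win (k + 1) 0 4 T.le_four) := by
      refine eq_extVec _ v fun i hi => ?_
      rw [hv, S.pv_mul]
      show app C (b.2)⁻¹ _ i = 0
      rw [hb2, hg1, _root_.mul_inv_rev, app_mul, ← map_inv, wext, app_ext_not_mem]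
      · exact hpW i (by omega)
      · rw [mem_range_win]; omega
    obtain ⟨x', hx'⟩ := S.move (by omega : 2 ≤ 4)
      (v := v ∘ win (k + 1) 0 4 T.le_four) (by
        rw [← herm_extVec C (win (k + 1) 0 4 T.le_four), ← hdec, hv, S.herm_pv])
    have hpt : S.pv (T.k4 x') = v := by
      show app C (wext C 0 T.le_four x') (basv (k + 1) (0 + 0)) = _
      rw [wext_basv C _ (by omega), hx', ← hdec]
    refine ⟨x', S.edge_unique hE (T.edge_k4_base ?_) (a := 1) (by rw [hpt, one_smul])⟩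
    rw [hpt, ← S.pv_one]
    exact hE.1
  obtain ⟨x1, h1⟩ := key q hq gq
  obtain ⟨x2, h2⟩ := key r hr gr
  have hE : S.Edge 1 (T.k4 (x1⁻¹ * x2)) := by
    refine T.edge_k4_base ?_
    rw [← S.pv_one]
    obtain ⟨a, ha, ea⟩ := h1.pv
    obtain ⟨a', ha', ea'⟩ := h2.pv
    rw [← S.adj_translate (T.k4 x1), mul_one, ← map_mul, mul_inv_cancel_left, ea, ea',
      adj_smul_left C ha, adj_smul_right C ha', S.adj_translate]
    exact hqr
  have hE' := hE.mul_left (T.k4 x1)
  rw [mul_one, ← map_mul, mul_inv_cancel_left] at hE'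
  have hE'' := ((hE'.congr_left h1.symm).congr_right h2.symm).mul_left b
  rwa [mul_inv_cancel_left, mul_inv_cancel_left] at hE''

/-- Every triangle lifts. -/
theorem triLifts (hq3 : 3 ≤ C.q) (T : StepFour S) : S.TriLifts := by
  intro p q r _ hq hr hqr
  have e1 := hq.mul_left p⁻¹
  have e2 := hr.mul_left p⁻¹
  rw [inv_mul_cancel] at e1 e2
  have h := T.four_base e1 e2 ((S.adj_translate _ _ _).2 hqr) (by
    refine exists_inWFour hq3 T.hk4 (by rw [← S.pv_one]; exact S.herm_pv 1) (S.herm_pv _) ?_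
    rw [← S.pv_one]
    exact e1.1)
  have := h.mul_left p
  rwa [mul_inv_cancel_left, mul_inv_cancel_left] at this

end StepFour

/-- A compatible chain of maps of `SU_4` with commuting distant members is induced by `SU_d`. -/
theorem exists_chain_hom_four (hq : 3 ≤ C.q) (d : ℕ) (hd : 4 ≤ d) :
    ∀ (β : ℕ → suG C (Fin 2) →* G) (ψ : ℕ → suG C (Fin 4) →* G),
      (∀ i, i + 4 ≤ d → ∀ (j : ℕ) (hj : j + 2 ≤ 4) (g : suG C (Fin 2)),
        ψ i (wext C j hj g) = β (i + j) g) →
      (∀ i j, i + 2 ≤ j → j + 2 ≤ d → ∀ g g', Commute (β i g) (β j g')) →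
      ∃ f : suG C (Fin d) →* G, ∀ (i : ℕ) (hi : i + 2 ≤ d) (g : suG C (Fin 2)),
        f (wext C i hi g) = β i g := by
  induction d, hd using Nat.le_induction with
  | base =>
    intro β ψ hψ _
    refine ⟨ψ 0, fun i hi g => ?_⟩
    rw [hψ 0 le_rfl i hi g, Nat.zero_add]
  | succ k hk ih =>
    intro β ψ hψ hc
    obtain ⟨h, hh⟩ := ih (fun i => β (i + 1)) (fun i => ψ (i + 1))
      (fun i hi j hj g => by rw [hψ (i + 1) (by omega) j hj g, show i + 1 + j = i + j + 1 by omega])
      (fun i j hij hj g g' => hc (i + 1) (j + 1) (by omega) (by omega) g g')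
    let S : StepData C G k := StepData.ofBlocks hq h
      ((ψ 0).comp (wext C 0 (by omega : 0 + 3 ≤ 4))) (by omega)
      (fun g => by
        rw [hh 0 (by omega) g, MonoidHom.comp_apply, wext_wext, hψ 0 (by omega) (0 + 1) (by omega) g])
      (fun j hj hj1 g g' => by
        rw [hh j hj g', MonoidHom.comp_apply, wext_wext, hψ 0 (by omega) (0 + 0) (by omega) g]
        exact hc (0 + (0 + 0)) (j + 1) (by omega) (by omega) g g')
    let T : StepFour S :=
      { ψ4 := ψ 0
        hk4 := hk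
        agree0 := fun x => rfl
        agree1 := fun y => by
          refine DFunLike.congr_fun (hom_ext_blocks C hq (by omega : 2 ≤ 3)
            ((ψ 0).comp (wext C 1 (by omega : 1 + 3 ≤ 4))) (h.comp (wext C 0 (by omega : 0 + 3 ≤ k)))
            fun i hi g => ?_) y
          rw [MonoidHom.comp_apply, MonoidHom.comp_apply, wext_wext, wext_wext,
            hψ 0 (by omega) (1 + i) (by omega) g, hh (0 + i) (by omega) g,
            show 0 + (1 + i) = 0 + i + 1 by omega] }
    obtain ⟨f, ft, f3⟩ := S.exists_hom hq (T.triLifts hq)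
    refine ⟨f, fun i hi g => ?_⟩
    rcases Nat.eq_zero_or_pos i with rfl | hi0
    · rw [show wext C 0 hi g = wext C 0 S.le_three (wext C 0 (by omega : 0 + 2 ≤ 3) g) by
        rw [wext_wext], f3]
      show ψ 0 (wext C 0 _ (wext C 0 _ g)) = _
      rw [wext_wext, hψ 0 (by omega) (0 + 0) (by omega) g]
    · rw [show wext C i hi g = wext C 1 StepData.le_tail (wext C (i - 1) (by omega : i - 1 + 2 ≤ k) g) by
        rw [wext_wext]; exact wext_congr C (by omega) _ g, ft]
      show h (wext C (i - 1) _ g) = _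
      rw [hh (i - 1) (by omega) g, show i - 1 + 1 = i by omega]

end CfsgLib.Phan
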