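import Cfsg.Agent.Phan.Three.Extend
import Cfsg.Agent.Phan.Three.CoverFour
import Cfsg.Agent.Forms4.UnitarySimple
import Cfsg.Prelude.Def_PhanSystems

/-!
# Weak Phan systems over nine elements
-/

set_option autoImplicit false
set_option linter.unusedSectionVars false

namespace CfsgLib.Phan.Three

open CfsgLib.RepBounds.Unit Matrix

variable {F : Type*} [Field F] [Fintype F] {C : ConjField F} {G : Type*} [Group G]

/-- The identification with `SU_4`. -/
noncomputable def toSUFour (C : ConjField F) : suG C (Fin 4) →* Cfsg.SU 4 F C.q :=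
  (MulEquiv.subgroupCongr (suG_fin_eq C 4)).toMonoidHom

theorem toSUFour_surjective (C : ConjField F) : Function.Surjective (toSUFour C) :=
  (MulEquiv.subgroupCongr (suG_fin_eq C 4)).surjective

theorem centralFour_of_ne_one (hq : C.q = 3) (π : suG C (Fin 4) →* G) (h : ∃ g, π g ≠ 1) :
    CentralFour π := by
  let R := reindexHom C (finSumFinEquiv : Fin 2 ⊕ Fin 2 ≃ Fin 4)
  let R' := reindexHom C (finSumFinEquiv : Fin 2 ⊕ Fin 2 ≃ Fin 4).symm
  have hR : ∀ g, R (R' g) = g := fun g => suG_ext C fun x => by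
    rw [app_reindexHom, app_reindexHom]; simp [Function.comp_def]
  have hc : ∀ k, π k = 1 → ∀ g, Commute g k := by
    intro k hk g
    rcases CfsgLib.Forms4.suG_normal_eq_top_or_le_center C (by simp) (π.ker.comap R) with hN | hN
    · obtain ⟨g0, hg0⟩ := h
      refine absurd ?_ hg0
      have : R' g0 ∈ π.ker.comap R := hN ▸ Subgroup.mem_top _
      rwa [Subgroup.mem_comap, hR, MonoidHom.mem_ker] at this
    · have : R' k ∈ Subgroup.center _ := hN (by rwa [Subgroup.mem_comap, hR, MonoidHom.mem_ker])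
      have e := congrArg R (Subgroup.mem_center_iff.1 this (R' g))
      rw [map_mul, map_mul, hR, hR] at e
      exact e
  exact ⟨hc, fun k hk => central_pow_four hq (hc k hk)⟩

/-- Recognition from a weak Phan system over nine elements. -/
theorem exists_surjective {q : ℕ} (hq3 : q = 3) (n : ℕ) (hn : 4 ≤ n) (hF : Fintype.card F = q ^ 2)
    (U : Fin n → Subgroup G) (V : Fin n → Fin n → Subgroup G)
    (h1 : ∀ i j : Fin n, (i : ℕ) + 2 ≤ j → ∀ x ∈ U i, ∀ y ∈ U j, x * y = y * x)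
    (h2 : ∀ i j : Fin n, (i : ℕ) + 1 = j → Cfsg.IsStandardUnitaryPair (V i j) (U i) (U j) F q)
    (hgen : (⨆ i, U i) ⊔ (⨆ (i : Fin n) (j : Fin n) (_ : (i : ℕ) + 1 = j), V i j) = ⊤)
    (h4 : ∀ i j k : Fin n, (i : ℕ) + 1 = j → (j : ℕ) + 1 = k →
      ∃ g : ↥(Cfsg.SU 4 F q) →* ↥(V i j ⊔ V j k), Function.Surjective g) :
    ∃ f : ↥(Cfsg.SU (n + 1) F q) →* G, Function.Surjective f := by
  classical
  obtain ⟨C, rfl⟩ := CfsgLib.RepBounds.Unit.exists_conjField q hF
  have hq : 3 ≤ C.q := by omega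
  have hm2 := two_ne_zero_of_three C hq3
  let U' : ℕ → Subgroup G := fun i => if h : i < n then U ⟨i, h⟩ else ⊥
  have hU' : ∀ i (h : i < n), U' i = U ⟨i, h⟩ := fun i h => dif_pos h
  have hψ : ∀ i (hi : i + 2 ≤ n), ∃ ψ : suG C (Fin 3) →* G,
      IsPair C ψ (U' i) (U' (i + 1)) ∧ ψ.range = V ⟨i, by omega⟩ ⟨i + 1, by omega⟩ := by
    intro i hi
    rw [hU' i (by omega), hU' (i + 1) (by omega)]
    exact exists_pair_of_standard C hq (h2 _ _ rfl)
  have hc : ∀ i j, i + 2 ≤ j → j < n → ∀ x ∈ U' i, ∀ y ∈ U' j, Commute x y :=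
    fun i j hij hj x hx y hy => by
      rw [hU' i (by omega)] at hx
      rw [hU' j hj] at hy
      exact h1 _ _ hij x hx y hy
  obtain ⟨Ψ, hP, hK⟩ := exists_compatible hq U' (fun i hi => (hψ i hi).imp fun _ h => h.1) hc (n - 1)
    (by omega)
  let β : ℕ → suG C (Fin 2) →* G := fun i =>
    if i + 1 < n then (Ψ i).comp (upB C) else (Ψ (n - 2)).comp (loB C)
  have hβ0 : ∀ i, i + 1 < n → β i = (Ψ i).comp (upB C) := fun i hi => if_pos hi
  have hβ1 : ∀ i, i + 1 < n → β (i + 1) = (Ψ i).comp (loB C) := by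
    intro i hi
    by_cases h : i + 2 < n
    · show (if i + 1 + 1 < n then _ else _) = _
      rw [if_pos (by omega)]
      exact MonoidHom.ext fun g => hK i (by omega) g
    · show (if i + 1 + 1 < n then _ else _) = _
      rw [if_neg (by omega), show n - 2 = i by omega]
  have hmem : ∀ i, i < n → (β i).range = U' i := by
    intro i hi
    by_cases h : i + 1 < n
    · rw [hβ0 i h]; exact (hP i (by omega)).range_up
    · obtain ⟨j, rfl⟩ : ∃ j, i = j + 1 := ⟨i - 1, by omega⟩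
      rw [hβ1 j (by omega)]; exact (hP j (by omega)).range_lo
  have hwin : ∀ i, ∃ ψ4 : suG C (Fin 4) →* G, i + 3 ≤ n → ∀ (j : ℕ) (hj : j + 2 ≤ 4)
      (g : suG C (Fin 2)), ψ4 (wext C j hj g) = β (i + j) g := by
    intro i
    by_cases hi : i + 3 ≤ n
    swap
    · exact ⟨1, fun h => absurd h hi⟩
    obtain ⟨p0, hp0, hr0⟩ := hψ i (by omega)
    obtain ⟨p1, hp1, hr1⟩ := hψ (i + 1) (by omega)
    set W := V ⟨i, by omega⟩ ⟨i + 1, by omega⟩ ⊔ V ⟨i + 1, by omega⟩ ⟨i + 1 + 1, by omega⟩ with hW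
    obtain ⟨g, hg⟩ := h4 ⟨i, by omega⟩ ⟨i + 1, by omega⟩ ⟨i + 1 + 1, by omega⟩ rfl rfl
    let π : suG C (Fin 4) →* G := W.subtype.comp (g.comp (toSUFour C))
    have hπr : π.range = W := by
      have hs : Function.Surjective (g.comp (toSUFour C)) := by
        rw [MonoidHom.coe_comp]; exact hg.comp (toSUFour_surjective C)
      rw [MonoidHom.range_comp, MonoidHom.range_eq_top.2 hs, ← MonoidHom.range_eq_map,
        Subgroup.range_subtype]
    have le0 : ∀ x ∈ U' i, x ∈ π.range := fun x hx => by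
      rw [← hp0.range_up] at hx
      obtain ⟨y, rfl⟩ := hx
      rw [hπr, hW, ← hr0]
      exact Subgroup.mem_sup_left ⟨_, rfl⟩
    have le1 : ∀ x ∈ U' (i + 1), x ∈ π.range := fun x hx => by
      rw [← hp0.range_lo] at hx
      obtain ⟨y, rfl⟩ := hx
      rw [hπr, hW, ← hr0]
      exact Subgroup.mem_sup_left ⟨_, rfl⟩
    have le2 : ∀ x ∈ U' (i + 1 + 1), x ∈ π.range := fun x hx => by
      rw [← hp1.range_lo] at hx
      obtain ⟨y, rfl⟩ := hx
      rw [hπr, hW, ← hr1]
      exact Subgroup.mem_sup_right ⟨_, rfl⟩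
    have hπ : CentralFour π := by
      refine centralFour_of_ne_one hq3 π ?_
      have hA := hP i (by omega)
      obtain ⟨y, hy⟩ := le0 (Ψ i (upB C (mneg C))) (hA.range_up ▸ ⟨_, rfl⟩)
      exact ⟨y, fun e => mneg_ne_one C hm2 (hA.inj_up ((hy.symm.trans e).trans (map_one _).symm))⟩
    obtain ⟨φ, hφ, -, eA, eB, eD⟩ := exists_four hq3 hπ (hP i (by omega)) (hP (i + 1) (by omega))
      le0 le1 le2 (hc i (i + 1 + 1) (by omega) (by omega))
    obtain ⟨ψ4, -, e0, e1⟩ := exists_extend hq3 hφ (hP i (by omega)) (hP (i + 1) (by omega)) eA eB eD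
      (hK i (by omega))
    refine ⟨ψ4, fun _ j hj g => ?_⟩
    rcases (show j = 0 ∨ j = 1 ∨ j = 2 by omega) with rfl | rfl | rfl
    · rw [Nat.add_zero, hβ0 i (by omega), MonoidHom.comp_apply, ← e0, upB, wext_wext]
    · rw [hβ1 i (by omega), MonoidHom.comp_apply, ← e0, loB, wext_wext]
    · rw [show i + 2 = i + 1 + 1 from rfl, hβ1 (i + 1) (by omega), MonoidHom.comp_apply, ← e1, loB,
        wext_wext]
  choose ψ4 hψ4 using hwin
  obtain ⟨f, hf⟩ := exists_chain_hom_four hq (n + 1) (by omega) β ψ4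
    (fun i hi j hj g => hψ4 i (by omega) j hj g)
    (fun i j hij hj g g' => hc i j hij (by omega) _ (hmem i (by omega) ▸ ⟨g, rfl⟩)
      _ (hmem j (by omega) ▸ ⟨g', rfl⟩))
  have hfU : ∀ i < n, U' i ≤ f.range := by
    intro i hi
    rw [← hmem i hi]
    rintro _ ⟨g, rfl⟩
    exact ⟨wext C i (by omega) g, hf i (by omega) g⟩
  refine ⟨f.comp (MulEquiv.subgroupCongr (suG_fin_eq C (n + 1))).symm.toMonoidHom, ?_⟩
  refine Function.Surjective.comp (g := f) (MonoidHom.range_eq_top.1 ?_) (MulEquiv.surjective _)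
  rw [eq_top_iff, ← hgen]
  refine sup_le (iSup_le fun i => ?_) (iSup_le fun i => iSup_le fun j => iSup_le fun hij => ?_)
  · simpa only [hU' _ i.2] using hfU i i.2
  · obtain ⟨ψ, hψ', hr⟩ := hψ i (by omega)
    have hV : V i j = ψ.range := by
      rw [hr]
      exact congrArg₂ V rfl (Fin.ext hij.symm)
    rw [hV, range_eq_sup C hq ψ, hψ'.range_up, hψ'.range_lo]
    exact sup_le (hfU i (by omega)) (hfU _ (by omega))

end CfsgLib.Phan.Three
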