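import Cfsg.Agent.Phan.Three.Tetra
import Cfsg.Agent.Phan.Standard

/-!
# The centraliser of a block involution of `SU_4`
-/

set_option autoImplicit false
set_option linter.unusedSectionVars false

namespace CfsgLib.Phan.Three

open CfsgLib.RepBounds.Unit Matrix

variable {F : Type*} [Field F] [Fintype F] (C : ConjField F)

/-- The first block of `SU_4`. -/
noncomputable def B0 : suG C (Fin 2) →* suG C (Fin 4) := wext C 0 (by omega : 0 + 2 ≤ 4)

/-- The middle block of `SU_4`. -/
noncomputable def B1 : suG C (Fin 2) →* suG C (Fin 4) := wext C 1 (by omega : 1 + 2 ≤ 4)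

/-- The last block of `SU_4`. -/
noncomputable def B2 : suG C (Fin 2) →* suG C (Fin 4) := wext C 2 (by omega : 2 + 2 ≤ 4)

theorem app_B0 (g : suG C (Fin 2)) (x : Fin 4 → F) :
    app C (B0 C g) x = ![app C g ![x 0, x 1] 0, app C g ![x 0, x 1] 1, x 2, x 3] := by
  have h : x ∘ win 4 0 2 (by omega) = ![x 0, x 1] := by funext j; fin_cases j <;> rfl
  funext i
  fin_cases i
  · show app C (ext C _ g) x (win 4 0 2 (by omega) 0) = _
    rw [app_ext_mem, h]; rfl
  · show app C (ext C _ g) x (win 4 0 2 (by omega) 1) = _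
    rw [app_ext_mem, h]; rfl
  · show app C (ext C _ g) x _ = _
    rw [app_ext_not_mem]
    · rfl
    · rw [mem_range_win]; simp
  · show app C (ext C _ g) x _ = _
    rw [app_ext_not_mem]
    · rfl
    · rw [mem_range_win]; simp

theorem app_B1 (g : suG C (Fin 2)) (x : Fin 4 → F) :
    app C (B1 C g) x = ![x 0, app C g ![x 1, x 2] 0, app C g ![x 1, x 2] 1, x 3] := by
  have h : x ∘ win 4 1 2 (by omega) = ![x 1, x 2] := by funext j; fin_cases j <;> rfl
  funext i
  fin_cases i
  · show app C (ext C _ g) x _ = _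
    rw [app_ext_not_mem]
    · rfl
    · rw [mem_range_win]; simp
  · show app C (ext C _ g) x (win 4 1 2 (by omega) 0) = _
    rw [app_ext_mem, h]; rfl
  · show app C (ext C _ g) x (win 4 1 2 (by omega) 1) = _
    rw [app_ext_mem, h]; rfl
  · show app C (ext C _ g) x _ = _
    rw [app_ext_not_mem]
    · rfl
    · rw [mem_range_win]; simp

theorem app_B2 (g : suG C (Fin 2)) (x : Fin 4 → F) :
    app C (B2 C g) x = ![x 0, x 1, app C g ![x 2, x 3] 0, app C g ![x 2, x 3] 1] := by
  have h : x ∘ win 4 2 2 (by omega) = ![x 2, x 3] := by funext j; fin_cases j <;> rfl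
  funext i
  fin_cases i
  · show app C (ext C _ g) x _ = _
    rw [app_ext_not_mem]
    · rfl
    · rw [mem_range_win]; simp
  · show app C (ext C _ g) x _ = _
    rw [app_ext_not_mem]
    · rfl
    · rw [mem_range_win]; simp
  · show app C (ext C _ g) x (win 4 2 2 (by omega) 0) = _
    rw [app_ext_mem, h]; rfl
  · show app C (ext C _ g) x (win 4 2 2 (by omega) 1) = _
    rw [app_ext_mem, h]; rfl

theorem B0_injective : Function.Injective (B0 C) := ext_injective C _

theorem B2_injective : Function.Injective (B2 C) := ext_injective C _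

theorem commute_B0_B2 (g g' : suG C (Fin 2)) : Commute (B0 C g) (B2 C g') :=
  commute_wext C _ _ (by omega) g g'

/-- The product of the outer blocks. -/
noncomputable def outer : suG C (Fin 2) × suG C (Fin 2) →* suG C (Fin 4) :=
  MonoidHom.noncommCoprod (B0 C) (B2 C) (commute_B0_B2 C)

theorem outer_apply (A A' : suG C (Fin 2)) : outer C (A, A') = B0 C A * B2 C A' := rfl

theorem outer_injective : Function.Injective (outer C) := by
  rintro ⟨A, A'⟩ ⟨B, B'⟩ h
  rw [outer_apply, outer_apply] at h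
  refine Prod.ext (suG_ext C fun x => ?_) (suG_ext C fun x => ?_)
  · have h' := congrArg (fun g => app C g ![x 0, x 1, 0, 0]) h
    simp only [app_mul, app_B0, app_B2] at h'
    have e0 := congrFun h' 0
    have e1 := congrFun h' 1
    simp at e0 e1
    have hx : x = ![x 0, x 1] := by funext j; fin_cases j <;> rfl
    rw [hx]
    funext j; fin_cases j
    · exact e0
    · exact e1
  · have h' := congrArg (fun g => app C g ![0, 0, x 0, x 1]) h
    simp only [app_mul, app_B0, app_B2] at h'
    have e0 := congrFun h' 2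
    have e1 := congrFun h' 3
    simp at e0 e1
    have hx : x = ![x 0, x 1] := by funext j; fin_cases j <;> rfl
    rw [hx]
    funext j; fin_cases j
    · exact e0
    · exact e1

theorem entry_eq (g : suG C (Fin 4)) (i : Fin 4) (j : Fin 4) :
    g.1.1 i j = app C g (basv 4 (j : ℕ)) i := by
  rw [show (basv 4 (j : ℕ) : Fin 4 → F) = Pi.single j 1 from funext fun l => by
    simp [basv, Pi.single_apply, Fin.ext_iff]]
  simp [app, Matrix.mulVec_single_one]

theorem ext_basv {g g' : suG C (Fin 4)} (h0 : app C g (basv 4 0) = app C g' (basv 4 0))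
    (h1 : app C g (basv 4 1) = app C g' (basv 4 1)) (h2 : app C g (basv 4 2) = app C g' (basv 4 2))
    (h3 : app C g (basv 4 3) = app C g' (basv 4 3)) : g = g' := by
  refine Subtype.ext (Subtype.ext (Matrix.ext fun i j => ?_))
  rw [entry_eq, entry_eq]
  fin_cases j
  · exact congrFun h0 i
  · exact congrFun h1 i
  · exact congrFun h2 i
  · exact congrFun h3 i

/-- The block involution. -/
noncomputable def inv0 : suG C (Fin 4) := B0 C (mneg C)

theorem app_inv0 (x : Fin 4 → F) : app C (inv0 C) x = ![-x 0, -x 1, x 2, x 3] := by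
  rw [inv0, app_B0, app_mneg]; rfl

/-- The first block of the matrix. -/
def topBlock (g : suG C (Fin 4)) : Matrix (Fin 2) (Fin 2) F :=
  !![g.1.1 0 0, g.1.1 0 1; g.1.1 1 0, g.1.1 1 1]

section centraliser

variable {C} (h2 : (2 : F) ≠ 0)
include h2

theorem eq_zero_of_eq_neg {a : F} (h : a = -a) : a = 0 :=
  (mul_eq_zero.1 (show (2 : F) * a = 0 by linear_combination h)).resolve_left h2

theorem block_zero {g : suG C (Fin 4)} (hg : Commute g (inv0 C)) :
    g.1.1 2 0 = 0 ∧ g.1.1 3 0 = 0 ∧ g.1.1 2 1 = 0 ∧ g.1.1 3 1 = 0 ∧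
      g.1.1 0 2 = 0 ∧ g.1.1 1 2 = 0 ∧ g.1.1 0 3 = 0 ∧ g.1.1 1 3 = 0 := by
  have key : ∀ (i : Fin 4) (x : Fin 4 → F), app C g (app C (inv0 C) x) i = app C (inv0 C) (app C g x) i :=
    fun i x => by rw [← app_mul, hg.eq, app_mul]
  have hs : ∀ j : Fin 4, app C (inv0 C) (basv 4 (j : ℕ)) =
      (if (j : ℕ) < 2 then (-1 : F) else 1) • basv 4 (j : ℕ) := fun j => by
    rw [app_inv0]; funext i; fin_cases j <;> fin_cases i <;> simp [basv]
  have e : ∀ i j : Fin 4, (if (j : ℕ) < 2 then (-1 : F) else 1) * g.1.1 i j =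
      (if (i : ℕ) < 2 then (-1 : F) else 1) * g.1.1 i j := fun i j => by
    have := key i (basv 4 (j : ℕ))
    rw [hs, app_smul, app_inv0, Pi.smul_apply, smul_eq_mul] at this
    rw [entry_eq, this]
    fin_cases i <;> simp
  refine ⟨?_, ?_, ?_, ?_, ?_, ?_, ?_, ?_⟩ <;> refine eq_zero_of_eq_neg h2 ?_
  · simpa using (e 2 0).symm
  · simpa using (e 3 0).symm
  · simpa using (e 2 1).symm
  · simpa using (e 3 1).symm
  · simpa using e 0 2
  · simpa using e 1 2
  · simpa using e 0 3
  · simpa using e 1 3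

theorem topBlock_mul {g g' : suG C (Fin 4)} (hg : Commute g (inv0 C)) :
    topBlock C (g * g') = topBlock C g * topBlock C g' := by
  obtain ⟨-, -, -, -, a, b, c, d⟩ := block_zero h2 hg
  ext i j
  show _ = _
  fin_cases i <;> fin_cases j <;>
    simp [topBlock, Matrix.mul_apply, Fin.sum_univ_two, Fin.sum_univ_four, a, b, c, d]

theorem nm_det_topBlock {g : suG C (Fin 4)} (hg : Commute g (inv0 C)) :
    nm C (topBlock C g).det = 1 := by
  obtain ⟨a, b, c, d, -⟩ := block_zero h2 hg
  have e00 := herm_app C g (basv 4 0) (basv 4 0)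
  have e11 := herm_app C g (basv 4 1) (basv 4 1)
  have e01 := herm_app C g (basv 4 0) (basv 4 1)
  have e10 := herm_app C g (basv 4 1) (basv 4 0)
  simp only [herm, Fin.sum_univ_four] at e00 e11 e01 e10
  simp only [show ∀ i, app C g (basv 4 0) i = g.1.1 i 0 from fun i => (entry_eq C g i 0).symm,
    show ∀ i, app C g (basv 4 1) i = g.1.1 i 1 from fun i => (entry_eq C g i 1).symm,
    a, b, c, d] at e00 e11 e01 e10
  simp [basv] at e00 e11 e01 e10
  simp only [topBlock, Matrix.det_fin_two_of, nm, map_sub, map_mul]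
  linear_combination e11 * (g.1.1 0 0 * C.σ (g.1.1 0 0) + g.1.1 1 0 * C.σ (g.1.1 1 0)) + e00
    - e10 * (g.1.1 0 0 * C.σ (g.1.1 0 1) + g.1.1 1 0 * C.σ (g.1.1 1 1))

theorem exists_outer {g : suG C (Fin 4)} (hg : Commute g (inv0 C)) (hd : (topBlock C g).det = 1) :
    ∃ A A', g = outer C (A, A') := by
  obtain ⟨a, b, c, d, -⟩ := block_zero h2 hg
  have e00 := herm_app C g (basv 4 0) (basv 4 0)
  have e10 := herm_app C g (basv 4 1) (basv 4 0)
  simp only [herm, Fin.sum_univ_four] at e00 e10
  simp only [show ∀ i, app C g (basv 4 0) i = g.1.1 i 0 from fun i => (entry_eq C g i 0).symm,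
    show ∀ i, app C g (basv 4 1) i = g.1.1 i 1 from fun i => (entry_eq C g i 1).symm,
    a, b, c, d] at e00 e10
  simp [basv] at e00 e10
  simp only [topBlock, Matrix.det_fin_two_of] at hd
  have hab : nm C (g.1.1 0 0) + nm C (g.1.1 1 0) = 1 := e00
  have h11 : g.1.1 1 1 = C.σ (g.1.1 0 0) := by
    linear_combination (C.σ (g.1.1 0 0)) * hd - g.1.1 1 1 * e00 + g.1.1 1 0 * e10
  have h01 : g.1.1 0 1 = -C.σ (g.1.1 1 0) := by
    linear_combination -(C.σ (g.1.1 1 0)) * hd - g.1.1 0 1 * e00 + g.1.1 0 0 * e10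
  set A := suTwo C (g.1.1 0 0) (g.1.1 1 0) hab with hA
  have f0 : app C g (basv 4 0) = app C (B0 C A) (basv 4 0) := by
    funext i
    rw [show app C g (basv 4 0) i = g.1.1 i 0 from (entry_eq C g i 0).symm, app_B0, hA, app_suTwo]
    fin_cases i <;> simp [basv, a, b]
  have f1 : app C g (basv 4 1) = app C (B0 C A) (basv 4 1) := by
    funext i
    rw [show app C g (basv 4 1) i = g.1.1 i 1 from (entry_eq C g i 1).symm, app_B0, hA, app_suTwo]
    fin_cases i <;> simp [basv, h01, h11, c, d]
  obtain ⟨y, hy⟩ := exists_tail C (k := 3) (by omega) (g := (B0 C A)⁻¹ * g) (by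
    rw [app_mul]
    show app C _ (app C g (basv 4 0)) = basv 4 0
    rw [f0, app_inv_app])
  have hy0 : app C y (basv 3 0) = basv 3 0 := by
    have e : app C (wext C 1 (by omega : 1 + 3 ≤ 4) y) (basv 4 (1 + 0)) = basv 4 (1 + 0) := by
      rw [hy]
      show app C _ (basv 4 1) = basv 4 1
      rw [app_mul, f1, app_inv_app]
    rw [wext_basv C _ (by omega)] at e
    have := congrArg (fun w => w ∘ win 4 1 3 (by omega)) e
    simp only [extVec_comp] at this
    rw [this]
    funext j
    simp [basv, win_apply]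
  obtain ⟨z, hz⟩ := exists_loB C hy0
  refine ⟨A, z, ?_⟩
  rw [outer_apply, show B2 C z = wext C 1 (by omega : 1 + 3 ≤ 4) (loB C z) by
    rw [loB, wext_wext]; rfl, hz]
  show g = B0 C A * wext C 1 _ y
  rw [hy, mul_inv_cancel_left]

/-- A binary tetrahedral pair centralising the block involution lies in the outer blocks. -/
theorem exists_outer_pair (hq : C.q = 3) {x t : suG C (Fin 4)} (hx : Commute x (inv0 C))
    (ht : Commute t (inv0 C)) (ht3 : t ^ 3 = 1) (hxt : x * x = (x * t) ^ 3) :
    ∃ A A' T T', x = outer C (A, A') ∧ t = outer C (T, T') ∧ T ^ 3 = 1 ∧ T' ^ 3 = 1 ∧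
      A * A = (A * T) ^ 3 ∧ A' * A' = (A' * T') ^ 3 := by
  set dx := (topBlock C x).det with hdx
  set dt := (topBlock C t).det with hdt
  have h1 : (topBlock C (1 : suG C (Fin 4))).det = 1 := by simp [topBlock]
  have hmul : ∀ {g g' : suG C (Fin 4)}, Commute g (inv0 C) →
      (topBlock C (g * g')).det = (topBlock C g).det * (topBlock C g').det := fun {g g'} hg => by
    rw [topBlock_mul h2 hg, Matrix.det_mul]
  have hpow : ∀ {g : suG C (Fin 4)}, Commute g (inv0 C) → ∀ n : ℕ,
      (topBlock C (g ^ n)).det = (topBlock C g).det ^ n := fun {g} hg n => by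
    induction n with
    | zero => rw [pow_zero, pow_zero, h1]
    | succ n ih => rw [pow_succ', hmul hg, ih, pow_succ']
  have hdt4 : dt ^ 4 = 1 := by
    have := nm_det_topBlock h2 ht
    rw [← hdt, nm, C.pow, hq] at this
    rw [← this]; ring
  have hdt3 : dt ^ 3 = 1 := by rw [hdt, ← hpow ht, ht3, h1]
  have hdt1 : dt = 1 := by rwa [pow_succ, hdt3, one_mul] at hdt4
  have hdx0 : dx ≠ 0 := fun h => by
    have := nm_det_topBlock h2 hx
    rw [← hdx, h, nm_zero] at this
    exact zero_ne_one this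
  have hdx1 : dx = 1 := by
    have e := congrArg (fun g => (topBlock C g).det) hxt
    simp only [hmul hx, hpow (hx.mul_left ht), ← hdx, ← hdt, hdt1, mul_one] at e
    exact mul_left_cancel₀ (mul_ne_zero hdx0 hdx0) (by linear_combination -e)
  obtain ⟨A, A', rfl⟩ := exists_outer h2 hx hdx1
  obtain ⟨T, T', rfl⟩ := exists_outer h2 ht hdt1
  refine ⟨A, A', T, T', rfl, rfl, ?_⟩
  rw [← map_pow, ← map_one (outer C)] at ht3
  rw [← map_mul, ← map_mul, ← map_pow] at hxt
  have e1 := outer_injective C ht3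
  have e2 := outer_injective C hxt
  exact ⟨congrArg Prod.fst e1, congrArg Prod.snd e1, congrArg Prod.fst e2, congrArg Prod.snd e2⟩

end centraliser

/-- The signed cyclic shift of the coordinates. -/
def shift : suG C (Fin 4) :=
  ⟨⟨!![0, 0, 0, -1; 1, 0, 0, 0; 0, 1, 0, 0; 0, 0, 1, 0], by
    simp [Matrix.det_succ_row_zero, Fin.sum_univ_succ, Fin.succAbove] <;> norm_num⟩, fun u v => by
    simp [herm, Matrix.mulVec, dotProduct, Fin.sum_univ_four]
    ring⟩

theorem app_shift (x : Fin 4 → F) : app C (shift C) x = ![-x 3, x 0, x 1, x 2] := by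
  funext i
  fin_cases i <;> simp [app, shift, Matrix.mulVec, dotProduct, Fin.sum_univ_four]

theorem app_shift_inv (x : Fin 4 → F) : app C (shift C)⁻¹ x = ![x 1, x 2, x 3, -x 0] := by
  conv_lhs => rw [show x = app C (shift C) ![x 1, x 2, x 3, -x 0] by
    rw [app_shift]; funext i; fin_cases i <;> simp, app_inv_app]

theorem conj_shift_B0 (y : suG C (Fin 2)) : shift C * B0 C y * (shift C)⁻¹ = B1 C y := by
  refine suG_ext C fun x => ?_
  simp only [app_mul, app_shift, app_shift_inv, app_B0, app_B1]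
  funext i
  fin_cases i <;> simp

theorem conj_shift_sq_B0 :
    shift C * shift C * B0 C (mneg C) = B2 C (mneg C) * (shift C * shift C) := by
  refine suG_ext C fun x => ?_
  simp only [app_mul, app_shift, app_B0, app_B2, app_mneg]
  funext i
  fin_cases i <;> simp

theorem torus_shift {b p r : F} (hb : nm C b = 1) (h : nm C p + nm C r = 1) :
    B0 C (suTwo C b 0 (nm_torus C hb)) * (shift C * B2 C (suTwo C p r h) * (shift C)⁻¹) =
      shift C * B2 C (suTwo C p (b * r) (nm_smul_snd C hb h)) * (shift C)⁻¹ *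
        B0 C (suTwo C b 0 (nm_torus C hb)) := by
  have hh : C.σ b * b = 1 := conj_mul_self C hb
  refine suG_ext C fun x => ?_
  simp only [app_mul, app_shift, app_shift_inv, app_B0, app_B2, app_suTwo]
  funext i
  fin_cases i <;> simp [map_mul]
  · ring
  · linear_combination (-(C.σ r * x 0)) * hh

theorem torus_B1 {b x y : F} (hb : nm C b = 1) (h : nm C x + nm C y = 1) :
    B0 C (suTwo C b 0 (nm_torus C hb)) * B1 C (suTwo C x y h) =
      B1 C (suTwo C x (b * y) (nm_smul_snd C hb h)) * B0 C (suTwo C b 0 (nm_torus C hb)) := by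
  have e := congrArg (wext C 0 (by omega : 0 + 3 ≤ 4)) (upB_torus_conj C hb h)
  simpa [upB, loB, B0, B1, map_mul, wext_wext] using e

end CfsgLib.Phan.Three
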