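import Cfsg.Agent.Phan.Three.Four

/-!
# A compatible chain inside an image of `SU_4` over nine elements
-/

set_option autoImplicit false
set_option linter.unusedSectionVars false

namespace CfsgLib.Phan.Three

open CfsgLib.RepBounds.Unit Matrix

variable {F : Type*} [Field F] [Fintype F] (C : ConjField F) {G : Type*} [Group G]

theorem exists_aut {f β : suG C (Fin 2) →* G} (hf : Function.Injective f)
    (hβ : Function.Injective β) (h : β.range = f.range) :
    ∃ δ : MulAut (suG C (Fin 2)), ∀ g, f (δ g) = β g := by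
  let e₁ := MonoidHom.ofInjective hf
  let e₂ := (MonoidHom.ofInjective hβ).trans (MulEquiv.subgroupCongr h)
  refine ⟨e₂.trans e₁.symm, fun g => ?_⟩
  show ((e₁ (e₁.symm (e₂ g)) : f.range) : G) = β g
  rw [e₁.apply_symm_apply]
  rfl

theorem col_ext {g g' : suG C (Fin 2)} (h : app C g (basv 2 0) = app C g' (basv 2 0)) : g = g' := by
  obtain ⟨h1, e1⟩ := eq_suTwo C g
  obtain ⟨h2, e2⟩ := eq_suTwo C g'
  rw [e1, e2]
  exact suTwo_congr C h1 h2 (congrFun h 0) (congrFun h 1)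

theorem diag_of_inv {y : suG C (Fin 2)} (h : app C y⁻¹ (basv 2 0) 1 = 0) :
    app C y (basv 2 0) 1 = 0 := by
  set v := app C y⁻¹ (basv 2 0) with hv
  have hv' : v = v 0 • basv 2 0 := by
    funext i; fin_cases i
    · simp [basv]
    · simpa [basv] using h
  have e : v 0 • app C y (basv 2 0) = basv 2 0 := by
    rw [← app_smul, ← hv', hv, app_app_inv]
  have e1 := congrFun e 1
  have e0 := congrFun e 0
  simp [basv] at e1 e0
  rcases e1 with h | h
  · rw [h, zero_mul] at e0; exact absurd e0 zero_ne_one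
  · exact h

theorem diag_of_inv' {y : suG C (Fin 2)} (h : app C y⁻¹ (basv 2 1) 0 = 0) :
    app C y (basv 2 0) 1 = 0 := by
  obtain ⟨hh, e⟩ := eq_suTwo C y⁻¹
  refine diag_of_inv C ?_
  rw [e, app_suTwo] at h
  simpa [basv] using h

theorem torus_B2 {b x y : F} (hb : nm C b = 1) (h : nm C x + nm C y = 1) :
    B1 C (suTwo C b 0 (nm_torus C hb)) * B2 C (suTwo C x y h) =
      B2 C (suTwo C x (b * y) (nm_smul_snd C hb h)) * B1 C (suTwo C b 0 (nm_torus C hb)) := by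
  have e := congrArg (wext C 1 (by omega : 1 + 3 ≤ 4)) (upB_torus_conj C hb h)
  simpa [upB, loB, B1, B2, map_mul, wext_wext] using e

/-- The torus of one block normalises the next. -/
theorem torus_norm_up {ψ : suG C (Fin 3) →* G} {A B : Subgroup G} (hψ : IsPair C ψ A B) {a : F}
    (ha : nm C a = 1) {z : G} (hz : z ∈ B) :
    ψ (upB C (suTwo C a 0 (nm_torus C ha))) * z *
      (ψ (upB C (suTwo C a 0 (nm_torus C ha))))⁻¹ ∈ B := by
  rw [← hψ.range_lo] at hz ⊢
  obtain ⟨v, rfl⟩ := hz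
  obtain ⟨hh, hv⟩ := eq_suTwo C v
  rw [MonoidHom.comp_apply, hv, ← map_mul, upB_torus_conj C ha hh, map_mul, mul_inv_cancel_right]
  exact ⟨_, rfl⟩

theorem torus_norm_lo {ψ : suG C (Fin 3) →* G} {A B : Subgroup G} (hψ : IsPair C ψ A B) {a : F}
    (ha : nm C a = 1) {z : G} (hz : z ∈ A) :
    ψ (loB C (suTwo C a 0 (nm_torus C ha))) * z *
      (ψ (loB C (suTwo C a 0 (nm_torus C ha))))⁻¹ ∈ A := by
  rw [← hψ.range_up] at hz ⊢
  obtain ⟨v, rfl⟩ := hz
  obtain ⟨hh, hv⟩ := eq_suTwo C v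
  rw [MonoidHom.comp_apply, hv, ← map_mul, loB_torus_conj C ha hh, map_mul, mul_inv_cancel_right]
  exact ⟨_, rfl⟩

section extend

variable {C} (hq : C.q = 3)
include hq

theorem fixed_cases {x : F} (hx : C.σ x = x) : x = 0 ∨ x = 1 ∨ x = -1 := by
  classical
  have h2 := two_ne_zero_of_three C hq
  have hsub : ({0, 1, -1} : Finset F) ⊆ Finset.univ.filter fun x => C.σ x = x := by
    intro y hy
    simp only [Finset.mem_insert, Finset.mem_singleton] at hy
    rw [Finset.mem_filter]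
    rcases hy with rfl | rfl | rfl <;> simp
  have hc : ({0, 1, -1} : Finset F).card = 3 := by
    rw [Finset.card_insert_of_notMem (by simp), Finset.card_pair]
    intro e
    exact h2 (by linear_combination e)
  have heq := Finset.eq_of_subset_of_card_le hsub (by rw [card_fixed C, hc, hq])
  have : x ∈ ({0, 1, -1} : Finset F) := by rw [heq]; simpa using hx
  simpa using this

/-- Two field maps agreeing on a non-fixed norm-one element are equal. -/
theorem ringHom_eq {τ τ' : F →+* F} {a : F} (hne : C.σ a ≠ a) (h : τ a = τ' a) : τ = τ' := by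
  refine RingHom.ext fun x => ?_
  set v := (x - C.σ x) / (a - C.σ a) with hv
  have hd : a - C.σ a ≠ 0 := sub_ne_zero.2 (Ne.symm hne)
  have hvf : C.σ v = v := by
    rw [hv, map_div₀, map_sub, map_sub, C.invol, C.invol, ← neg_sub, ← neg_sub a, neg_div_neg_eq]
  have huf : C.σ (x - v * a) = x - v * a := by
    rw [map_sub, map_mul, hvf]
    have : v * (a - C.σ a) = x - C.σ x := by rw [hv, div_mul_cancel₀ _ hd]
    linear_combination this
  have hfix : ∀ w : F, C.σ w = w → τ w = τ' w := fun w hw => by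
    rcases fixed_cases hq hw with rfl | rfl | rfl <;> simp
  have e : x = (x - v * a) + v * a := by ring
  rw [e, map_add, map_add, map_mul, map_mul, hfix _ huf, hfix _ hvf, h]

variable {φ : suG C (Fin 4) →* G} (hφ : CentralFour φ) {Ψ₀ Ψ₁ : suG C (Fin 3) →* G}
  {A B D : Subgroup G} (h0 : IsPair C Ψ₀ A B) (h1 : IsPair C Ψ₁ B D)
  (hA : (φ.comp (B0 C)).range = A) (hB : (φ.comp (B1 C)).range = B)
  (hD : (φ.comp (B2 C)).range = D)

include hφ h0 h1 hA hB hD in
/-- A compatible pair of maps of `SU_3` extends to `SU_4`. -/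
theorem exists_extend (hK : ∀ g, Ψ₁ (upB C g) = Ψ₀ (loB C g)) :
    ∃ ψ4 : suG C (Fin 4) →* G, ψ4.range = φ.range ∧
      (∀ g, ψ4 (wext C 0 (by omega : 0 + 3 ≤ 4) g) = Ψ₀ g) ∧
      ∀ g, ψ4 (wext C 1 (by omega : 1 + 3 ≤ 4) g) = Ψ₁ g := by
  have hn : nm C (0 : F) + nm C 1 = 1 := by rw [nm_zero, zero_add, nm_one]
  have i0 : Function.Injective (φ.comp (B0 C)) :=
    injective_of_range C h0.inj_up (hA.trans h0.range_up.symm)
  have i1 : Function.Injective (φ.comp (B1 C)) :=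
    injective_of_range C h0.inj_lo (hB.trans h0.range_lo.symm)
  have i2 : Function.Injective (φ.comp (B2 C)) :=
    injective_of_range C h1.inj_lo (hD.trans h1.range_lo.symm)
  obtain ⟨δ₀, e₀⟩ := exists_aut C i0 h0.inj_up (h0.range_up.trans hA.symm)
  obtain ⟨δ₁, e₁⟩ := exists_aut C i1 h0.inj_lo (h0.range_lo.trans hB.symm)
  obtain ⟨δ₂, e₂⟩ := exists_aut C i2 h1.inj_lo (h1.range_lo.trans hD.symm)
  replace e₀ : ∀ g, φ (B0 C (δ₀ g)) = Ψ₀ (upB C g) := e₀
  replace e₁ : ∀ g, φ (B1 C (δ₁ g)) = Ψ₀ (loB C g) := e₁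
  replace e₂ : ∀ g, φ (B2 C (δ₂ g)) = Ψ₁ (loB C g) := e₂
  have b01_3 : ∀ g, app C (B0 C g) (basv 4 3) = basv 4 3 := fun g => wext_basv_out C _ (Or.inr (by omega)) g
  have b1_3 : ∀ g, app C (B1 C g) (basv 4 3) = basv 4 3 := fun g => wext_basv_out C _ (Or.inr (by omega)) g
  have b1_0 : ∀ g, app C (B1 C g) (basv 4 0) = basv 4 0 := fun g => wext_basv_out C _ (Or.inl (by omega)) g
  have b2_0 : ∀ g, app C (B2 C g) (basv 4 0) = basv 4 0 := fun g => wext_basv_out C _ (Or.inl (by omega)) g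
  -- a block normalised by the torus
  have key : ∀ {X Y : suG C (Fin 4)} {Yr : suG C (Fin 2) →* suG C (Fin 4)} {i : ℕ} (_ : i < 4)
      (_ : ∀ g, app C (Yr g) (basv 4 i) = basv 4 i) (_ : app C X (basv 4 i) = basv 4 i)
      (_ : Y ∈ Yr.range) (_ : φ X * φ Y * (φ X)⁻¹ ∈ (φ.comp Yr).range),
      ∀ (e : Fin 4 → F), (∀ g, app C (Yr g) e = e) → app C Y (app C X⁻¹ e) = app C X⁻¹ e := by
    intro X Y Yr i hi hYr hX hY hmem e he
    obtain ⟨v, rfl⟩ := hY
    obtain ⟨v', hv'⟩ := hmem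
    have heq : X * Yr v = Yr v' * X := eq_of_fix hq hφ hi
      (by rw [map_mul, map_mul, show φ (Yr v') = _ from hv']; group)
      (by rw [app_mul, hYr, hX]) (by rw [app_mul, hX, hYr])
    have := congrArg (fun g => app C g (app C X⁻¹ e)) heq
    simp only [app_mul, app_app_inv, he] at this
    conv_rhs => rw [← this, app_inv_app]
  have t0 : ∀ a (h : nm C a + nm C 0 = 1), app C (δ₀ (suTwo C a 0 h)) (basv 2 0) 1 = 0 := by
    intro a h
    have ha : nm C a = 1 := by rwa [nm_zero, add_zero] at h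
    refine diag_of_inv C ?_
    have e := key (X := B0 C (δ₀ (suTwo C a 0 h))) (Y := B1 C (suTwo C 0 1 hn)) (Yr := B1 C) (i := 3)
      (by omega) b1_3 (b01_3 _) ⟨_, rfl⟩
      (by rw [hB, e₀]; exact torus_norm_up C h0 ha (hB ▸ ⟨_, rfl⟩)) _ b1_0
    rw [← map_inv, app_B0, app_B1, app_suTwo] at e
    have e1 := congrFun e 1
    simp [basv] at e1
    rw [show (basv 2 0 : Fin 2 → F) = ![1, 0] by funext i; fin_cases i <;> simp [basv]]
    exact e1.symm
  have t1 : ∀ a (h : nm C a + nm C 0 = 1), app C (δ₁ (suTwo C a 0 h)) (basv 2 0) 1 = 0 := by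
    intro a h
    have ha : nm C a = 1 := by rwa [nm_zero, add_zero] at h
    refine diag_of_inv' C ?_
    have e := key (X := B1 C (δ₁ (suTwo C a 0 h))) (Y := B0 C (suTwo C 0 1 hn)) (Yr := B0 C) (i := 3)
      (by omega) b01_3 (b1_3 _) ⟨_, rfl⟩
      (by rw [hA, e₁]; exact torus_norm_lo C h0 ha (hA ▸ ⟨_, rfl⟩)) (basv 4 2)
      (fun g => wext_basv_out C _ (Or.inr (by omega)) g)
    rw [← map_inv, app_B1, app_B0, app_suTwo] at e
    have e1 := congrFun e 1
    simp [basv] at e1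
    rw [show (basv 2 1 : Fin 2 → F) = ![0, 1] by funext i; fin_cases i <;> simp [basv]]
    exact e1.symm
  have t2 : ∀ a (h : nm C a + nm C 0 = 1), app C (δ₂ (suTwo C a 0 h)) (basv 2 0) 1 = 0 := by
    intro a h
    have ha : nm C a = 1 := by rwa [nm_zero, add_zero] at h
    refine diag_of_inv' C ?_
    have e := key (X := B2 C (δ₂ (suTwo C a 0 h))) (Y := B1 C (suTwo C 0 1 hn)) (Yr := B1 C) (i := 0)
      (by omega) b1_0 (b2_0 _) ⟨_, rfl⟩
      (by rw [hB, e₂]; exact torus_norm_lo C h1 ha (hB ▸ ⟨_, rfl⟩)) (basv 4 3) b1_3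
    rw [← map_inv, app_B2, app_B1, app_suTwo] at e
    have e1 := congrFun e 2
    simp [basv] at e1
    rw [show (basv 2 1 : Fin 2 → F) = ![0, 1] by funext i; fin_cases i <;> simp [basv]]
    exact e1.symm
  obtain ⟨τ₀, c₀, hc₀, f₀⟩ := exists_diag_semilinear C (by omega) δ₀ t0
  obtain ⟨τ₁, c₁, hc₁, f₁⟩ := exists_diag_semilinear C (by omega) δ₁ t1
  obtain ⟨τ₂, c₂, hc₂, f₂⟩ := exists_diag_semilinear C (by omega) δ₂ t2
  have hδ : ∀ {δ : MulAut (suG C (Fin 2))} {τ : F →+* F} {c : F} (_ : nm C c = 1),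
      (∀ a b (h : nm C a + nm C b = 1), app C (δ (suTwo C a b h)) (basv 2 0) = ![τ a, c * τ b]) →
      ∀ a b (h : nm C a + nm C b = 1), ∃ h', δ (suTwo C a b h) = suTwo C (τ a) (c * τ b) h' := by
    intro δ τ c hc f a b h
    have h' : nm C (τ a) + nm C (c * τ b) = 1 := by
      rw [nm_mul, hc, one_mul, nm_map, nm_map, ← map_add, h, map_one]
    exact ⟨h', col_ext C (by rw [f a b h, app_suTwo_zero])⟩
  obtain ⟨a, ha, hne⟩ := exists_norm_one_ne C (by omega)
  have hc_ne : ∀ {c : F}, nm C c = 1 → c ≠ 0 := fun h => ne_zero_of_nm C h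
  have hτ01 : τ₀ = τ₁ := by
    refine ringHom_eq hq hne ?_
    obtain ⟨k0, g0⟩ := hδ hc₀ f₀ a 0 (nm_torus C ha)
    obtain ⟨k1, g1⟩ := hδ hc₁ f₁ 0 1 hn
    obtain ⟨k2, g2⟩ := hδ hc₁ f₁ 0 (a * 1) (nm_smul_snd C ha hn)
    have e := congrArg Ψ₀ (upB_torus_conj C ha hn)
    rw [map_mul, map_mul, ← e₀, ← e₁, ← e₁, g0, g1, g2, ← map_mul, ← map_mul] at e
    have ht : nm C (τ₀ a) = 1 := by rw [nm_map, ha, map_one]
    rw [suTwo_congr C k0 (nm_torus C ht) rfl (by rw [map_zero, mul_zero]), torus_B1 C ht k1, map_mul,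
      map_mul, mul_left_inj] at e
    have e' := (suTwo_inj C (i1 e)).2
    rw [map_mul, map_one, mul_one, mul_one, mul_comm (τ₀ a)] at e'
    exact mul_left_cancel₀ (hc_ne hc₁) e'
  have hτ12 : τ₁ = τ₂ := by
    refine ringHom_eq hq hne ?_
    obtain ⟨k0, g0⟩ := hδ hc₁ f₁ a 0 (nm_torus C ha)
    obtain ⟨k1, g1⟩ := hδ hc₂ f₂ 0 1 hn
    obtain ⟨k2, g2⟩ := hδ hc₂ f₂ 0 (a * 1) (nm_smul_snd C ha hn)
    have e := congrArg Ψ₁ (upB_torus_conj C ha hn)
    rw [map_mul, map_mul, hK, ← e₁, ← e₂, ← e₂, g0, g1, g2, ← map_mul, ← map_mul] at e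
    have ht : nm C (τ₁ a) = 1 := by rw [nm_map, ha, map_one]
    rw [suTwo_congr C k0 (nm_torus C ht) rfl (by rw [map_zero, mul_zero]), torus_B2 C ht k1, map_mul,
      map_mul, mul_left_inj] at e
    have e' := (suTwo_inj C (i2 e)).2
    rw [map_mul, map_one, mul_one, mul_one, mul_comm (τ₁ a)] at e'
    exact mul_left_cancel₀ (hc_ne hc₂) e'
  subst hτ01 hτ12
  have hd : ∀ i, nm C ((![1, c₀, c₀ * c₁, c₀ * c₁ * c₂] : Fin 4 → F) i) = 1 := by
    intro i; fin_cases i <;> simp [nm_one, nm_mul, hc₀, hc₁, hc₂]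
  set θ := dsHom C τ₀ ![1, c₀, c₀ * c₁, c₀ * c₁ * c₂] hd with hθ
  have two : ∀ {δ : MulAut (suG C (Fin 2))} {c : F} (d : Fin 2 → F) (hd : ∀ i, nm C (d i) = 1),
      d 1 = d 0 * c →
      (∀ a b (h : nm C a + nm C b = 1), app C (δ (suTwo C a b h)) (basv 2 0) = ![τ₀ a, c * τ₀ b]) →
      ∀ g, dsHom C τ₀ d hd g = δ g := by
    intro δ c d hd hdc f g
    obtain ⟨h, hg⟩ := eq_suTwo C g
    refine col_ext C ?_
    conv_rhs => rw [hg, f]
    have hv : dsVec τ₀ d (basv 2 0) = d 0 • basv 2 0 := by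
      funext i; fin_cases i <;> simp [dsVec, basv]
    have e := app_dsHom C τ₀ d hd g (basv 2 0)
    rw [hv, app_smul] at e
    funext i
    have ei := congrFun e i
    simp only [Pi.smul_apply, smul_eq_mul, dsVec] at ei
    refine mul_left_cancel₀ (ne_zero_of_nm C (hd 0)) (ei.trans ?_)
    fin_cases i
    · rfl
    · show d 1 * _ = d 0 * (c * _)
      rw [hdc, mul_assoc]
      rfl
  refine ⟨φ.comp θ, ?_, ?_, ?_⟩
  · rw [MonoidHom.range_comp, MonoidHom.range_eq_top.2 (dsHom_bijective C _ _ _).2,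
      ← MonoidHom.range_eq_map]
  all_goals
    intro g
    refine DFunLike.congr_fun (hom_ext_blocks C (by omega) (by omega : 2 ≤ 3) ((φ.comp θ).comp _) _
      fun i hi y => ?_) g
    rw [MonoidHom.comp_apply, MonoidHom.comp_apply, wext_wext, hθ, wext, dsHom_ext]
    rcases (show i = 0 ∨ i = 1 by omega) with rfl | rfl
  · rw [two _ _ (show c₀ = 1 * c₀ by rw [one_mul]) f₀]
    exact e₀ y
  · rw [two _ _ (show c₀ * c₁ = c₀ * c₁ from rfl) f₁]
    exact e₁ y
  · rw [two _ _ (show c₀ * c₁ = c₀ * c₁ from rfl) f₁]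
    exact (e₁ y).trans (hK y).symm
  · rw [two _ _ (show c₀ * c₁ * c₂ = c₀ * c₁ * c₂ from rfl) f₂]
    exact e₂ y

end extend

end CfsgLib.Phan.Three
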