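import Cfsg.Agent.Phan.Three.Involutions

/-!
# Two pairs inside an image of `SU_4` over nine elements
-/

set_option autoImplicit false
set_option linter.unusedSectionVars false

namespace CfsgLib.Phan.Three

open CfsgLib.RepBounds.Unit Matrix

section lift

variable {H G : Type*} [Group H] [Group G] {π : H →* G}

/-- A binary tetrahedral lift of a pair. -/
structure IsLift (π : H →* G) (a t : G) (x s : H) : Prop where
  map_fst : π x = a
  map_snd : π s = t
  cube : s ^ 3 = 1
  rel : x * x = (x * s) ^ 3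
  comm : Commute (x * x) s
  four : x ^ 4 = 1

theorem CentralFour.exists_isLift (h : CentralFour π) {a t : G} (ha : a ∈ π.range)
    (htm : t ∈ π.range) (ht : t ^ 3 = 1) (hat : a * a = (a * t) ^ 3) (hc : Commute (a * a) t) :
    ∃ x s, IsLift π a t x s := by
  obtain ⟨x, s, h1, h2, h3, h4, h5, h6⟩ := h.exists_pair_lift ha htm ht hat hc
  exact ⟨x, s, h1, h2, h3, h4, h5, h6⟩

theorem IsLift.eq (h : CentralFour π) {a t : G} {x s x' s' : H} (l : IsLift π a t x s)
    (l' : IsLift π a t x' s') : x = x' ∧ s = s' := by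
  obtain rfl := h.cube_unique (l.map_snd.trans l'.map_snd.symm) l.cube l'.cube
  refine ⟨?_, rfl⟩
  obtain ⟨k, hk, -, hkc, -⟩ := h.exists_central_mul (l.map_fst.trans l'.map_fst.symm)
  have e := l.rel
  rw [hk, show x' * k * s = x' * s * k by rw [mul_assoc, ← (hkc s).eq, ← mul_assoc],
    (hkc (x' * s)).mul_pow, (hkc x').symm.mul_mul_mul_comm, ← l'.rel] at e
  have e' : k * k = k ^ 3 := mul_left_cancel e
  rw [pow_three] at e'
  rw [hk, show k = 1 by simpa using e', mul_one]

theorem IsLift.conj {a t : G} {x s : H} (l : IsLift π a t x s) (z : H) :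
    IsLift π (π z * a * (π z)⁻¹) (π z * t * (π z)⁻¹) (z * x * z⁻¹) (z * s * z⁻¹) where
  map_fst := by rw [map_mul, map_mul, map_inv, l.map_fst]
  map_snd := by rw [map_mul, map_mul, map_inv, l.map_snd]
  cube := by rw [conj_pow, l.cube]; group
  rel := by
    rw [show z * x * z⁻¹ * (z * s * z⁻¹) = z * (x * s) * z⁻¹ by group, conj_pow, ← l.rel]; group
  comm := by
    have := l.comm.map (MulAut.conj z).toMonoidHom
    simpa only [map_mul, MulEquiv.coe_toMonoidHom, MulAut.conj_apply] using this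
  four := by rw [conj_pow, l.four]; group

theorem conj_inv_eq (g v : H) : g⁻¹ * v * g = MulAut.conj g⁻¹ v := by simp

theorem IsLift.comp_conj {a t : G} {x s : H} (l : IsLift π a t x s) (g : H) :
    IsLift (π.comp (MulAut.conj g).toMonoidHom) a t (g⁻¹ * x * g) (g⁻¹ * s * g) where
  map_fst := by
    show π (g * (g⁻¹ * x * g) * g⁻¹) = a
    rw [← l.map_fst]; congr 1; group
  map_snd := by
    show π (g * (g⁻¹ * s * g) * g⁻¹) = t
    rw [← l.map_snd]; congr 1; group
  cube := by rw [conj_inv_eq, ← map_pow, l.cube, map_one]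
  rel := by
    rw [conj_inv_eq, conj_inv_eq, ← map_mul, ← map_mul, ← map_pow, l.rel]
  comm := by
    rw [conj_inv_eq, conj_inv_eq, ← map_mul]
    exact l.comm.map (MulAut.conj g⁻¹)
  four := by rw [conj_inv_eq, ← map_pow, l.four, map_one]

theorem IsLift.commute (h : CentralFour π) {a t : G} {x s : H} (l : IsLift π a t x s) {z : H}
    (ha : Commute (π z) a) (ht : Commute (π z) t) : Commute z x ∧ Commute z s := by
  have := IsLift.eq h (l.conj z) (by rw [ha.eq, ht.eq, mul_inv_cancel_right, mul_inv_cancel_right]; exact l)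
  exact ⟨mul_inv_eq_iff_eq_mul.1 this.1, mul_inv_eq_iff_eq_mul.1 this.2⟩

theorem range_comp_conj (π : H →* G) (g : H) :
    (π.comp (MulAut.conj g).toMonoidHom).range = π.range := by
  rw [MonoidHom.range_comp, MonoidHom.range_eq_top.2 (MulAut.conj g).surjective,
    ← MonoidHom.range_eq_map]

end lift

variable {F : Type*} [Field F] [Fintype F] (C : ConjField F)

variable {G : Type*} [Group G]

theorem range_eq_of_gen {f f' : suG C (Fin 2) →* G} {X T x t : suG C (Fin 2)}
    (h : Subgroup.closure {X, T} = ⊤) (h' : Subgroup.closure {x, t} = ⊤) (e1 : f X = f' x)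
    (e2 : f T = f' t) : f.range = f'.range := by
  rw [MonoidHom.range_eq_map, MonoidHom.range_eq_map]
  conv_lhs => rw [← h]
  conv_rhs => rw [← h']
  rw [MonoidHom.map_closure, MonoidHom.map_closure, Set.image_pair, Set.image_pair, e1, e2]

theorem injective_of_range {f f' : suG C (Fin 2) →* G} (hf' : Function.Injective f')
    (h : f.range = f'.range) : Function.Injective f := by
  have hs : Function.Surjective f.rangeRestrict := f.rangeRestrict_surjective
  have e : suG C (Fin 2) ≃* f.range := (MonoidHom.ofInjective hf').trans (MulEquiv.subgroupCongr h.symm)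
  have hb : Function.Bijective f.rangeRestrict :=
    (Nat.bijective_iff_surjective_and_card _).2 ⟨hs, Nat.card_congr e.toEquiv⟩
  exact fun a b hab => hb.1 (Subtype.ext hab)

theorem IsLift.eq_image {H K : Type*} [Group H] [Group K] {π : H →* G} (h : CentralFour π)
    (j : K →* H) (hj : Function.Injective (π.comp j)) {a t : G} {x s : H} (l : IsLift π a t x s)
    {y y' : K} (e1 : π (j y) = a) (e2 : π (j y') = t) : x = j y ∧ s = j y' := by
  have c1 : π.comp j y = a := e1
  have c2 : π.comp j y' = t := e2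
  have h3 : y' ^ 3 = 1 := hj (by rw [map_pow, c2, ← l.map_snd, ← map_pow, l.cube, map_one, map_one])
  have hr : y * y = (y * y') ^ 3 := hj (by
    rw [map_mul, map_pow, map_mul, c1, c2, ← l.map_fst, ← l.map_snd, ← map_mul, l.rel, map_pow,
      map_mul])
  have hc : Commute (y * y) y' := by
    have := l.comm.map π
    rw [map_mul, l.map_fst, l.map_snd, ← c1, ← c2, ← map_mul] at this
    apply hj
    rw [map_mul (π.comp j) (y * y) y', map_mul (π.comp j) y' (y * y)]
    exact this.eq
  refine IsLift.eq h l ⟨e1, e2, by rw [← map_pow, h3, map_one],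
    by rw [← map_mul, ← map_mul, hr, map_pow], ?_, ?_⟩
  · rw [← map_mul]; exact hc.map j
  · rw [← map_pow, pow_four_eq_one h3 hr hc, map_one]

theorem commute_all_of_gen {K : Type*} [Group K] {X T Y : K} (h : Subgroup.closure {X, T} = ⊤)
    (h1 : Commute Y X) (h2 : Commute Y T) (g : K) : Commute g Y := by
  have hle : Subgroup.closure {X, T} ≤ Subgroup.centralizer {Y} := by
    rw [Subgroup.closure_le]
    rintro v (rfl | rfl)
    · exact Subgroup.mem_centralizer_iff.2 fun w hw => by rw [Set.mem_singleton_iff.1 hw]; exact h1.eq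
    · exact Subgroup.mem_centralizer_iff.2 fun w hw => by rw [Set.mem_singleton_iff.1 hw]; exact h2.eq
  have := Subgroup.mem_centralizer_iff.1 (hle (h ▸ Subgroup.mem_top g)) Y rfl
  exact this.symm

/-- Two injective parametrisations of the same subgroup agree on the central involution. -/
theorem map_mneg (h2 : (2 : F) ≠ 0) {f f' : suG C (Fin 2) →* G} (hf : Function.Injective f)
    (hf' : Function.Injective f') (h : f.range = f'.range) : f (mneg C) = f' (mneg C) := by
  obtain ⟨y, hy⟩ : f' (mneg C) ∈ f.range := h ▸ ⟨_, rfl⟩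
  have hyy : y * y = 1 := hf (by rw [map_mul, hy, ← map_mul, mneg_sq, map_one, map_one])
  have hy1 : y ≠ 1 := fun e => mneg_ne_one C h2 (hf' (by rw [← hy, e, map_one, map_one]))
  rw [← hy, eq_mneg_of_sq C h2 hyy hy1]

section main

variable {C} (hq : C.q = 3)
include hq

/-- Equality of preimages fixing a common basis vector. -/
theorem eq_of_fix {π : suG C (Fin 4) →* G} (hπ : CentralFour π) {g g' : suG C (Fin 4)} {i : ℕ}
    (hi : i < 4) (e : π g = π g') (h : app C g (basv 4 i) = basv 4 i)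
    (h' : app C g' (basv 4 i) = basv 4 i) : g = g' := by
  obtain ⟨k, hk, -, hkc, -⟩ := hπ.exists_central_mul e
  have hfix : app C k (basv 4 i) = basv 4 i := by
    rw [show k = g'⁻¹ * g by rw [hk, inv_mul_cancel_left], app_mul, h]
    conv_lhs => rw [← h', app_inv_app]
  rw [hk, eq_one_of_central hq hkc hi hfix, mul_one]

theorem pow_three_torus {T : suG C (Fin 2)} {p : F} (h : app C T (basv 2 0) = p • basv 2 0)
    (hT : T ^ 3 = 1) : p ^ 3 = 1 := by
  have e := congrArg (fun g => app C g (basv 2 0) 0) hT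
  simp only [pow_three, app_mul, app_one, h, app_smul] at e
  simp [basv] at e
  rw [← e]; ring

/-- The components of a lift whose square is the block involution. -/
theorem exists_components {π : suG C (Fin 4) →* G} {a t : G} {x s : suG C (Fin 4)}
    (l : IsLift π a t x s) (hxx : x * x = inv0 C) :
    ∃ X T T', x = B0 C X ∧ s = outer C (T, T') ∧ T' ^ 3 = 1 ∧ Subgroup.closure {X, T} = ⊤ := by
  have h2 := two_ne_zero_of_three C hq
  obtain ⟨X, X', T, T', ex, es, hT, hT', hr, hr'⟩ := exists_outer_pair h2 hq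
    (show Commute x (inv0 C) by rw [← hxx]; exact (Commute.refl x).mul_right (Commute.refl x))
    (show Commute s (inv0 C) by rw [← hxx]; exact l.comm.symm) l.cube l.rel
  have e : (X * X, X' * X') = (mneg C, (1 : suG C (Fin 2))) := outer_injective C (by
    rw [← Prod.mk_mul_mk, map_mul, ← ex, hxx, outer_apply, map_one, mul_one]
    rfl)
  obtain ⟨hX, hX'⟩ := Prod.mk.injEq _ _ _ _ ▸ e
  have hX1 : X' = 1 := by
    by_contra hne
    have hm := eq_mneg_of_sq C h2 hX' hne
    rw [hm, (mneg_comm C T').symm.mul_pow, hT', mul_one, mneg_sq, pow_three, mneg_sq, mul_one] at hr'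
    exact mneg_ne_one C h2 hr'.symm
  refine ⟨X, T, T', by rw [ex, hX1, outer_apply, map_one, mul_one], es, hT',
    closure_eq_top C hq hX hT fun hT1 => mneg_ne_one C h2 ?_⟩
  rw [hT1, mul_one, pow_three, ← mul_assoc] at hr
  have hX1' : X = 1 := by simpa using hr
  rw [← hX, hX1', mul_one]

variable {π : suG C (Fin 4) →* G} (hπ : CentralFour π)
  {ψ ψ' : suG C (Fin 3) →* G} {A B D : Subgroup G} (hψ : IsPair C ψ A B) (hψ' : IsPair C ψ' B D)
  {x t : suG C (Fin 2)} (hgen : Subgroup.closure {x, t} = ⊤) (ht : t ^ 3 = 1)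
  (hxt : x * x = (x * t) ^ 3) (hxm : x * x = mneg C)

omit hq in
include ht hxt hxm in
theorem image_rel {H : Type*} [Group H] (f : suG C (Fin 2) →* H) :
    f t ^ 3 = 1 ∧ f x * f x = (f x * f t) ^ 3 ∧ Commute (f x * f x) (f t) := by
  refine ⟨by rw [← map_pow, ht, map_one], by rw [← map_mul, ← map_mul, hxt, map_pow], ?_⟩
  rw [← map_mul, hxm]
  exact ((mneg_comm C t).symm).map f

include hπ hψ hψ' hgen ht hxt hxm in
theorem stage_one (hA : A ≤ π.range) (hB : B ≤ π.range) (hD : D ≤ π.range)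
    (hc : ∀ u ∈ A, ∀ v ∈ D, Commute u v) :
    ∃ g, ((π.comp (MulAut.conj g).toMonoidHom).comp (B0 C)).range = A ∧
      ((π.comp (MulAut.conj g).toMonoidHom).comp (B2 C)).range = D := by
  have h2 := two_ne_zero_of_three C hq
  have haA : ψ (upB C x) ∈ A := hψ.range_up ▸ ⟨x, rfl⟩
  have htaA : ψ (upB C t) ∈ A := hψ.range_up ▸ ⟨t, rfl⟩
  have hdD : ψ' (loB C x) ∈ D := hψ'.range_lo ▸ ⟨x, rfl⟩
  have htdD : ψ' (loB C t) ∈ D := hψ'.range_lo ▸ ⟨t, rfl⟩
  obtain ⟨r1, r2, r3⟩ := image_rel ht hxt hxm (ψ.comp (upB C))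
  obtain ⟨r1', r2', r3'⟩ := image_rel ht hxt hxm (ψ'.comp (loB C))
  obtain ⟨xa₀, sa₀, la₀⟩ := hπ.exists_isLift (hA haA) (hA htaA) r1 r2 r3
  obtain ⟨xd₀, sd₀, ld₀⟩ := hπ.exists_isLift (hD hdD) (hD htdD) r1' r2' r3'
  have hnc : ∃ g, ¬ Commute g (xa₀ * xa₀) := by
    by_contra! hall
    have hn : nm C (0 : F) + nm C 1 = 1 := by rw [nm_zero, zero_add, nm_one]
    obtain ⟨p, hp⟩ : ψ (loB C (suTwo C 0 1 hn)) ∈ π.range := hB (hψ.range_lo ▸ ⟨_, rfl⟩)
    have e : Commute (π p) (π (xa₀ * xa₀)) := (hall p).map π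
    rw [hp, map_mul, la₀.map_fst, ← map_mul, ← map_mul, hxm] at e
    have e' := e.eq
    rw [← map_mul, ← map_mul, mneg, upB_torus_conj C (a := (-1 : F)) (by rw [nm_neg, nm_one]) hn,
      map_mul, map_mul, mul_left_inj] at e'
    exact h2 (by linear_combination (suTwo_inj C (hψ.inj_lo e')).2)
  obtain ⟨g, hg⟩ := exists_conj_inv0 C hq (s := xa₀ * xa₀) (by
    rw [← la₀.four]; simp only [pow_succ, pow_zero, one_mul, mul_assoc]) hnc
  refine ⟨g, ?_⟩
  have la := la₀.comp_conj g
  have ld := ld₀.comp_conj g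
  set π' := π.comp (MulAut.conj g).toMonoidHom
  have hπ' : CentralFour π' := hπ.comp_conj g
  set xa := g⁻¹ * xa₀ * g
  set sa := g⁻¹ * sa₀ * g
  set xd := g⁻¹ * xd₀ * g
  set sd := g⁻¹ * sd₀ * g
  have hxx : xa * xa = inv0 C := by
    rw [← hg]; show g⁻¹ * xa₀ * g * (g⁻¹ * xa₀ * g) = _; group
  obtain ⟨c1, c2⟩ := la.commute hπ' (z := xd)
    (by rw [ld.map_fst]; exact (hc _ haA _ hdD).symm)
    (by rw [ld.map_fst]; exact (hc _ htaA _ hdD).symm)
  obtain ⟨c3, c4⟩ := la.commute hπ' (z := sd)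
    (by rw [ld.map_snd]; exact (hc _ haA _ htdD).symm)
    (by rw [ld.map_snd]; exact (hc _ htaA _ htdD).symm)
  obtain ⟨X, T, T', ea, es, hT', hgenXT⟩ := exists_components hq la hxx
  obtain ⟨Y, Y', S, S', ed, esd, hS, hS', hr, hr'⟩ := exists_outer_pair h2 hq
    (show Commute xd (inv0 C) by rw [← hxx]; exact c1.mul_right c1)
    (show Commute sd (inv0 C) by rw [← hxx]; exact c3.mul_right c3) ld.cube ld.rel
  have ea' : xa = outer C (X, 1) := by rw [ea, outer_apply, map_one, mul_one]
  have hcomp : ∀ {p q : suG C (Fin 2) × suG C (Fin 2)}, Commute (outer C p) (outer C q) →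
      Commute p.1 q.1 ∧ Commute p.2 q.2 := fun {p q} h => by
    have e := outer_injective C (show outer C (p * q) = outer C (q * p) by rw [map_mul, map_mul, h.eq])
    exact ⟨congrArg Prod.fst e, congrArg Prod.snd e⟩
  rw [ea', ed] at c1
  rw [es, ed] at c2
  rw [ea', esd] at c3
  rw [es, esd] at c4
  have yx : Commute Y X := (hcomp c1).1
  have yt : Commute Y T := (hcomp c2).1
  have yt' : Commute Y' T' := (hcomp c2).2
  have sx : Commute S X := (hcomp c3).1
  have st : Commute S T := (hcomp c4).1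
  have st' : Commute S' T' := (hcomp c4).2
  have hm3 : mneg C ^ 3 = mneg C := by rw [pow_three, mneg_sq, mul_one]
  have hS1 : S = 1 := by
    rcases eq_pm_one_of_central C (by omega) h2 (commute_all_of_gen hgenXT sx st) with h | h
    · exact h
    · rw [h, hm3] at hS
      exact h.trans hS
  have hY1 : Y = 1 := by
    rcases eq_pm_one_of_central C (by omega) h2 (commute_all_of_gen hgenXT yx yt) with h | h
    · exact h
    · rw [h, hS1, mul_one, mneg_sq, hm3] at hr
      exact h.trans hr.symm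
  have ed' : xd = B2 C Y' := by rw [ed, hY1, outer_apply, map_one, one_mul]
  have esd' : sd = B2 C S' := by rw [esd, hS1, outer_apply, map_one, one_mul]
  have hYY : Y' * Y' = mneg C := by
    refine eq_mneg_of_sq C h2 (B2_injective C ?_) fun h => mneg_ne_one C h2 (hψ'.inj_lo ?_)
    · rw [map_one, map_mul, map_mul, ← ed', ← ld.four]
      simp only [pow_succ, pow_zero, one_mul, mul_assoc]
    · have e := congrArg π' (show xd * xd = 1 by rw [ed', ← map_mul, h, map_one])
      rw [map_mul, ld.map_fst, ← map_mul, ← map_mul, hxm, map_one] at e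
      exact e.trans (map_one _).symm
  have hgenYS : Subgroup.closure {Y', S'} = ⊤ := closure_eq_top C hq hYY hS' fun h => by
    rw [h, mul_one, pow_three, ← mul_assoc] at hr'
    have hY' : Y' = 1 := by simpa using hr'
    rw [hY', mul_one] at hYY
    exact mneg_ne_one C h2 hYY.symm
  have hT1 : T' = 1 := by
    rcases eq_pm_one_of_central C (by omega) h2 (commute_all_of_gen hgenYS yt'.symm st'.symm) with h | h
    · exact h
    · rw [h, hm3] at hT'
      exact h.trans hT'
  have es' : sa = B0 C T := by rw [es, hT1, outer_apply, map_one, mul_one]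
  constructor
  · rw [← hψ.range_up]
    refine range_eq_of_gen C hgenXT hgen ?_ ?_
    · show π' (B0 C X) = ψ (upB C x); rw [← ea, la.map_fst]
    · show π' (B0 C T) = ψ (upB C t); rw [← es', la.map_snd]
  · rw [← hψ'.range_lo]
    refine range_eq_of_gen C hgenYS hgen ?_ ?_
    · show π' (B2 C Y') = ψ' (loB C x); rw [← ed', ld.map_fst]
    · show π' (B2 C S') = ψ' (loB C t); rw [← esd', ld.map_snd]

include hπ hψ hψ' ht hxt hxm in
theorem stage_two (hB : B ≤ π.range) (hA : (π.comp (B0 C)).range = A)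
    (hD : (π.comp (B2 C)).range = D) :
    ∃ g, ((π.comp (MulAut.conj g).toMonoidHom).comp (B0 C)).range = A ∧
      ((π.comp (MulAut.conj g).toMonoidHom).comp (B2 C)).range = D ∧
      ∃ xb sb, IsLift (π.comp (MulAut.conj g).toMonoidHom) (ψ (loB C x)) (ψ (loB C t)) xb sb ∧
        xb * xb = B1 C (mneg C) := by
  have h2 := two_ne_zero_of_three C hq
  have hn : nm C (0 : F) + nm C 1 = 1 := by rw [nm_zero, zero_add, nm_one]
  have hm : nm C (-1 : F) = 1 := by rw [nm_neg, nm_one]
  obtain ⟨r1, r2, r3⟩ := image_rel ht hxt hxm (ψ.comp (loB C))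
  obtain ⟨xb, sb, lb⟩ := hπ.exists_isLift (hB (hψ.range_lo ▸ ⟨x, rfl⟩)) (hB (hψ.range_lo ▸ ⟨t, rfl⟩))
    r1 r2 r3
  set s := xb * xb with hs
  have hps : π s = ψ (loB C (mneg C)) := by
    rw [hs, map_mul, lb.map_fst, MonoidHom.comp_apply, ← map_mul, ← map_mul, hxm]
  have hss : s * s = 1 := by
    rw [← lb.four, hs]; simp only [pow_succ, pow_zero, one_mul, mul_assoc]
  have hi0 : Function.Injective (π.comp (B0 C)) :=
    injective_of_range C hψ.inj_up (hA.trans hψ.range_up.symm)
  have hm0 : π (B0 C (mneg C)) = ψ (upB C (mneg C)) :=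
    map_mneg C h2 hi0 hψ.inj_up (hA.trans hψ.range_up.symm)
  have hcm : Commute (loB C (mneg C)) (upB C (mneg C)) := suG_ext C fun w => by
    simp only [app_mul, app_loB, app_upB, app_mneg]
    funext i; fin_cases i <;> simp
  -- the lift normalises the outer block
  have hconj : ∀ v, ∃ y, π (B0 C y) = π s * π (B0 C v) * (π s)⁻¹ := by
    intro v
    obtain ⟨v', hv'⟩ : π (B0 C v) ∈ (ψ.comp (upB C)).range := by
      rw [hψ.range_up, ← hA]; exact ⟨v, rfl⟩
    obtain ⟨hh, hv''⟩ := eq_suTwo C v'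
    have : π s * π (B0 C v) * (π s)⁻¹ ∈ (π.comp (B0 C)).range := by
      rw [hA, ← hψ.range_up, ← hv', hps, MonoidHom.comp_apply, hv'', ← map_mul, mneg,
        loB_torus_conj C hm hh, map_mul, mul_inv_cancel_right]
      exact ⟨_, rfl⟩
    exact this
  obtain ⟨y, hy⟩ := hconj x
  obtain ⟨y', hy'⟩ := hconj t
  obtain ⟨r1a, r2a, r3a⟩ := image_rel ht hxt hxm (B0 C)
  obtain ⟨ey, -⟩ := IsLift.eq_image hπ (B0 C) hi0
    ((⟨rfl, rfl, r1a, r2a, r3a, pow_four_eq_one r1a r2a r3a⟩ :
      IsLift π (π (B0 C x)) (π (B0 C t)) (B0 C x) (B0 C t)).conj s) hy hy'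
  have hsc : Commute s (inv0 C) := by
    have e : s * inv0 C * s⁻¹ = B0 C (y * y) := by
      rw [map_mul, ← ey, inv0, ← hxm, map_mul]; group
    have hyy : y * y = mneg C := hi0 (by
      show π (B0 C (y * y)) = π (B0 C (mneg C))
      rw [← e, map_mul, map_mul, map_inv, hps, show π (inv0 C) = _ from hm0, hm0, ← map_mul, hcm.eq,
        map_mul, mul_inv_cancel_right])
    rw [hyy] at e
    exact mul_inv_eq_iff_eq_mul.1 e
  have hn0 : ∃ v, ¬ Commute s (B0 C v) := by
    by_contra! hall
    obtain ⟨v, hv⟩ : ψ (upB C (suTwo C 0 1 hn)) ∈ (π.comp (B0 C)).range := by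
      rw [hA, ← hψ.range_up]; exact ⟨_, rfl⟩
    have e := ((hall v).map π).eq
    rw [show π (B0 C v) = _ from hv, hps, ← map_mul, ← map_mul, mneg, loB_torus_conj C hm hn, map_mul,
      map_mul, mul_left_inj] at e
    exact h2 (by linear_combination -(suTwo_inj C (hψ.inj_up e)).2)
  have hn2 : ∃ v, ¬ Commute s (B2 C v) := by
    by_contra! hall
    obtain ⟨v, hv⟩ : ψ' (loB C (suTwo C 0 1 hn)) ∈ (π.comp (B2 C)).range := by
      rw [hD, ← hψ'.range_lo]; exact ⟨_, rfl⟩
    have hmb : ψ (loB C (mneg C)) = ψ' (upB C (mneg C)) :=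
      map_mneg C h2 hψ.inj_lo hψ'.inj_up (hψ.range_lo.trans hψ'.range_up.symm)
    have e := ((hall v).map π).eq
    rw [show π (B2 C v) = _ from hv, hps, hmb, ← map_mul, ← map_mul, mneg, upB_torus_conj C hm hn,
      map_mul, map_mul, mul_left_inj] at e
    exact h2 (by linear_combination -(suTwo_inj C (hψ'.inj_lo e)).2)
  obtain ⟨u, u', hu⟩ := exists_outer_conj h2 hsc hss hn0 hn2
  refine ⟨B0 C u * B2 C u', ?_, ?_, _, _, lb.comp_conj _, by rw [← hu, hs]; group⟩
  · have : (π.comp (MulAut.conj (B0 C u * B2 C u')).toMonoidHom).comp (B0 C) =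
        (π.comp (B0 C)).comp (MulAut.conj u).toMonoidHom := MonoidHom.ext fun v => by
      show π (B0 C u * B2 C u' * B0 C v * (B0 C u * B2 C u')⁻¹) = π (B0 C (u * v * u⁻¹))
      congr 1
      rw [mul_assoc (B0 C u), ← (commute_B0_B2 C v u').eq, map_mul, map_mul, map_inv]
      group
    rw [this, range_comp_conj, hA]
  · have : (π.comp (MulAut.conj (B0 C u * B2 C u')).toMonoidHom).comp (B2 C) =
        (π.comp (B2 C)).comp (MulAut.conj u').toMonoidHom := MonoidHom.ext fun v => by
      show π (B0 C u * B2 C u' * B2 C v * (B0 C u * B2 C u')⁻¹) = π (B2 C (u' * v * u'⁻¹))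
      congr 1
      rw [(commute_B0_B2 C u u').eq, mul_assoc (B2 C u'), (commute_B0_B2 C u v).eq, map_mul, map_mul,
        map_inv]
      group
    rw [this, range_comp_conj, hD]

include hπ hψ hgen ht hxt hxm in
theorem stage_three (hA : (π.comp (B0 C)).range = A) {xb sb : suG C (Fin 4)}
    (lb : IsLift π (ψ (loB C x)) (ψ (loB C t)) xb sb) (hxb : xb * xb = B1 C (mneg C)) :
    (π.comp (B1 C)).range = B := by
  have h2 := two_ne_zero_of_three C hq
  have hm : nm C (-1 : F) = 1 := by rw [nm_neg, nm_one]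
  obtain ⟨X, T, T', ex, es, hT', hgenXT⟩ := exists_components hq (lb.comp_conj (shift C))
    (by rw [inv0, show B0 C (mneg C) = (shift C)⁻¹ * B1 C (mneg C) * shift C by
      rw [← conj_shift_B0]; group, ← hxb]; group)
  have exb : xb = B1 C X := by rw [← conj_shift_B0, ← ex]; group
  have esb : sb = B1 C T * (shift C * B2 C T' * (shift C)⁻¹) := by
    rw [← conj_shift_B0]
    calc sb = shift C * ((shift C)⁻¹ * sb * shift C) * (shift C)⁻¹ := by group
      _ = _ := by rw [es, outer_apply]; group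
  suffices hT1 : T' = 1 by
    rw [← hψ.range_lo]
    refine range_eq_of_gen C hgenXT hgen ?_ ?_
    · show π (B1 C X) = ψ (loB C x); rw [← exb, lb.map_fst]
    · show π (B1 C T) = ψ (loB C t)
      rw [show B1 C T = sb by rw [esb, hT1, map_one]; group, lb.map_snd]
  obtain ⟨a, ha, hne⟩ := exists_norm_one_ne C (by omega)
  obtain ⟨y0, hy0⟩ : ψ (upB C (suTwo C a 0 (nm_torus C ha))) ∈ (π.comp (B0 C)).range := by
    rw [hA, ← hψ.range_up]; exact ⟨_, rfl⟩
  replace hy0 : π (B0 C y0) = ψ (upB C (suTwo C a 0 (nm_torus C ha))) := hy0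
  have hpm : π (B1 C (mneg C)) = ψ (loB C (mneg C)) := by
    rw [← hxb, map_mul, lb.map_fst, ← map_mul, ← map_mul, hxm]
  have hcomm : Commute (B0 C y0) (B1 C (mneg C)) := by
    refine eq_of_fix hq hπ (i := 3) (by omega) ?_ ?_ ?_
    · rw [map_mul, map_mul, hy0, hpm, ← map_mul, ← map_mul, mneg,
        upB_torus_conj C ha (nm_torus C hm), suTwo_congr C _ (nm_torus C hm) rfl (mul_zero a)]
    · rw [app_mul, show app C (B1 C (mneg C)) (basv 4 3) = basv 4 3 from
        wext_basv_out C _ (Or.inr (by omega)) _]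
      exact wext_basv_out C _ (Or.inr (by omega)) _
    · rw [app_mul, show app C (B0 C y0) (basv 4 3) = basv 4 3 from
        wext_basv_out C _ (Or.inr (by omega)) _]
      exact wext_basv_out C _ (Or.inr (by omega)) _
  obtain ⟨hh, hy⟩ := eq_suTwo C y0
  set b := app C y0 (basv 2 0) 0 with hb
  set b' := app C y0 (basv 2 0) 1 with hb'
  have hb0 : b' = 0 := by
    have e := congrArg (fun g => app C g (basv 4 0) 1) hcomm.eq
    rw [hy] at e
    simp only [app_mul, app_B0, app_B1, app_mneg, app_suTwo] at e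
    simp [basv] at e
    exact eq_zero_of_eq_neg h2 e
  have hbn : nm C b = 1 := by rw [hb0, nm_zero, add_zero] at hh; exact hh
  have hy' : y0 = suTwo C b 0 (nm_torus C hbn) := hy.trans (suTwo_congr C _ _ rfl hb0)
  have hb1 : b * b ≠ 1 := by
    intro hbb
    have e : y0 * y0 = 1 := by
      rw [hy', suTwo_mul_torus C _ _ (by rw [hbb, nm_one, nm_zero, add_zero]),
        suTwo_congr C _ (by rw [nm_one, nm_zero, add_zero]) hbb rfl, suTwo_one_torus]
    have e' := congrArg (fun g => π (B0 C g)) e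
    rw [map_mul, map_mul, hy0, map_one, map_one, ← map_mul, ← map_mul] at e'
    have e'' := hψ.inj_up (e'.trans (map_one _).symm)
    have := congrFun (congrArg (fun g => app C g (basv 2 0)) e'') 0
    simp [app_mul, app_one, app_suTwo, basv] at this
    refine hne ?_
    rw [← inv_eq_conj C ha, inv_eq_of_mul_eq_one_right this]
  obtain ⟨hTh, hTe⟩ := eq_suTwo C T
  obtain ⟨hT'h, hT'e⟩ := eq_suTwo C T'
  set p := app C T' (basv 2 0) 0 with hp
  set r := app C T' (basv 2 0) 1 with hr
  set Tb := suTwo C (app C T (basv 2 0) 0) (b * app C T (basv 2 0) 1) (nm_smul_snd C hbn hTh)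
  set Pb := suTwo C p (b * r) (nm_smul_snd C hbn hT'h) with hPb
  set z := B0 C y0 * sb * (B0 C y0)⁻¹ with hz
  have hz1 : z = shift C * outer C (Tb, Pb) * (shift C)⁻¹ := by
    rw [hz, mul_inv_eq_iff_eq_mul, esb, hy']
    conv_lhs => rw [hTe, hT'e, ← mul_assoc, torus_B1 C hbn hTh, mul_assoc, torus_shift C hbn hT'h]
    rw [← conj_shift_B0, outer_apply]
    simp only [Tb, Pb]
    group
  -- the conjugate lies in the group generated by the lift
  obtain ⟨ht1, ht2⟩ := eq_suTwo C t
  obtain ⟨w, hw, hwz⟩ : π z ∈ (Subgroup.closure {xb, sb}).map π := by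
    have : π z ∈ (ψ.comp (loB C)).range := by
      rw [hz, map_mul, map_mul, map_inv, hy0, lb.map_snd, ← map_mul, ht2, upB_torus_conj C ha ht1,
        map_mul, mul_inv_cancel_right]
      exact ⟨_, rfl⟩
    rw [MonoidHom.range_eq_map, ← hgen, MonoidHom.map_closure, Set.image_pair] at this
    rw [MonoidHom.map_closure, Set.image_pair, lb.map_fst, lb.map_snd]
    exact this
  have hz3 : z ^ 3 = 1 := by rw [hz, conj_pow, lb.cube]; group
  have hzw : z = w ^ 4 := by
    refine hπ.cube_unique ?_ hz3 ?_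
    · rw [map_pow, hwz, pow_succ, ← map_pow π z, hz3, map_one, one_mul]
    · rw [← pow_mul, show 4 * 3 = 3 * 4 from rfl, pow_mul]
      exact hπ.exp _ (by rw [map_pow, hwz, ← map_pow, hz3, map_one])
  let K : Subgroup (suG C (Fin 4)) := ((⊤ : Subgroup (suG C (Fin 2))).prod (Subgroup.zpowers T')).map
    ((MulAut.conj (shift C)).toMonoidHom.comp (outer C))
  have hWK : Subgroup.closure {xb, sb} ≤ K := by
    rw [Subgroup.closure_le]
    rintro v (rfl | rfl)
    · refine ⟨(X, 1), ⟨Subgroup.mem_top _, one_mem _⟩, ?_⟩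
      show shift C * outer C (X, 1) * (shift C)⁻¹ = _
      rw [outer_apply, map_one, mul_one, exb, conj_shift_B0]
    · refine ⟨(T, T'), ⟨Subgroup.mem_top _, Subgroup.mem_zpowers _⟩, ?_⟩
      show shift C * outer C (T, T') * (shift C)⁻¹ = _
      rw [esb, outer_apply, ← conj_shift_B0]; group
  obtain ⟨⟨v, v'⟩, ⟨-, hv'⟩, hv⟩ := pow_mem (hWK hw) 4
  have hPmem : Pb ∈ Subgroup.zpowers T' := by
    have e : shift C * outer C (v, v') * (shift C)⁻¹ = shift C * outer C (Tb, Pb) * (shift C)⁻¹ := by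
      rw [← hz1, hzw]; exact hv
    rw [mul_left_inj, mul_right_inj] at e
    have e' : v' = Pb := congrArg Prod.snd (outer_injective C e)
    rw [← e']
    exact hv'
  have hcases : Pb = 1 ∨ Pb = T' ∨ Pb = T'⁻¹ := by
    obtain ⟨j, hj⟩ := Subgroup.mem_zpowers_iff.1 hPmem
    rw [← hj, ← Int.emod_add_ediv_mul j 3, _root_.zpow_add, mul_comm (j / 3), _root_.zpow_mul,
      show T' ^ (3 : ℤ) = 1 by exact_mod_cast hT', _root_.one_zpow, mul_one]
    rcases (show j % 3 = 0 ∨ j % 3 = 1 ∨ j % 3 = 2 by omega) with e | e | e <;> rw [e]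
    · exact Or.inl (_root_.zpow_zero _)
    · exact Or.inr (Or.inl (_root_.zpow_one _))
    · refine Or.inr (Or.inr (eq_inv_of_mul_eq_one_left ?_))
      rw [← hT']; norm_cast
  have hinv : app C T'⁻¹ (basv 2 0) = ![C.σ p, -r] := by
    have e : app C T' ![C.σ p, -r] = basv 2 0 := by
      rw [hT'e, app_suTwo]
      have hn' : p * C.σ p + r * C.σ r = 1 := hT'h
      funext i
      fin_cases i <;> simp [basv]
      · linear_combination hn'
      · ring
    conv_lhs => rw [← e, app_inv_app]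
  have hPe : app C Pb (basv 2 0) 1 = b * r := by rw [hPb, app_suTwo_zero]; rfl
  have hbne : b ≠ 0 := ne_zero_of_nm C hbn
  have hr0 : r = 0 := by
    rcases hcases with e | e | e <;> rw [e] at hPe
    · rw [app_one] at hPe
      have h0 : b * r = 0 := by rw [← hPe]; simp [basv]
      exact (mul_eq_zero.1 h0).resolve_left hbne
    · by_contra hr0
      have : b = 1 := mul_right_cancel₀ hr0 (by rw [one_mul]; exact hPe.symm.trans hr.symm)
      exact hb1 (by rw [this, one_mul])
    · by_contra hr0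
      rw [hinv] at hPe
      have : b = -1 := mul_right_cancel₀ hr0 (by rw [neg_one_mul]; exact hPe.symm)
      exact hb1 (by rw [this, neg_one_mul, neg_neg])
  have hpn : nm C p = 1 := by rw [hr0, nm_zero, add_zero] at hT'h; exact hT'h
  have hp0 : app C T' (basv 2 0) = p • basv 2 0 := by
    funext i
    fin_cases i
    · simp [hp, basv]
    · simpa [basv] using hr0
  have hp1 : p = 1 := by
    have e3 := pow_three_torus hq hp0 hT'
    have e4 : p ^ 4 = 1 := by
      rw [← hpn, nm, C.pow, hq]; ring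
    rwa [pow_succ, e3, one_mul] at e4
  rw [hT'e, suTwo_congr C _ (by rw [nm_one, nm_zero, add_zero]) hp1 hr0, suTwo_one_torus]

omit hgen ht hxt hxm in
include hπ hψ hψ' in
/-- Two pairs with commuting ends inside an image of `SU_4` come from its three blocks. -/
theorem exists_four (hA : A ≤ π.range) (hB : B ≤ π.range) (hD : D ≤ π.range)
    (hc : ∀ u ∈ A, ∀ v ∈ D, Commute u v) :
    ∃ φ : suG C (Fin 4) →* G, CentralFour φ ∧ φ.range = π.range ∧ (φ.comp (B0 C)).range = A ∧
      (φ.comp (B1 C)).range = B ∧ (φ.comp (B2 C)).range = D := by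
  obtain ⟨x, t, hgen, -, ht, hxt, hxm⟩ := exists_tetra C hq
  obtain ⟨g, g0, g2⟩ := stage_one hq hπ hψ hψ' hgen ht hxt hxm hA hB hD hc
  set π₁ := π.comp (MulAut.conj g).toMonoidHom with hπ₁
  have hr : π₁.range = π.range := range_comp_conj π g
  obtain ⟨g', e0, e2, xb, sb, lb, hxb⟩ := stage_two hq (hπ.comp_conj g) hψ hψ' ht hxt hxm
    (hr.symm ▸ hB) g0 g2
  exact ⟨_, (hπ.comp_conj g).comp_conj g', (range_comp_conj _ g').trans hr, e0,
    stage_three hq ((hπ.comp_conj g).comp_conj g') hψ hgen ht hxt hxm e0 lb hxb, e2⟩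

end main

end CfsgLib.Phan.Three
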