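import Cfsg.Agent.Phan.Three.Blocks4

/-!
# Involutions and central elements of `SU_4` over nine elements
-/

set_option autoImplicit false
set_option linter.unusedSectionVars false

namespace CfsgLib.Phan.Three

open CfsgLib.RepBounds.Unit Matrix

variable {F : Type*} [Field F] [Fintype F] (C : ConjField F)

/-- An isometric involution other than minus the identity fixes a unit vector. -/
theorem exists_fixed_of_invol {ι : Type*} [Fintype ι] [DecidableEq ι] (h2 : (2 : F) ≠ 0)
    (f : (ι → F) → (ι → F)) (hadd : ∀ x y, f (x + y) = f x + f y)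
    (hsmul : ∀ (a : F) x, f (a • x) = a • f x) (hf : ∀ x y, herm C (f x) (f y) = herm C x y)
    (hff : ∀ x, f (f x) = x) (hne : ∃ x, f x ≠ -x) : ∃ u, herm C u u = 1 ∧ f u = u := by
  obtain ⟨x₀, hx₀⟩ := hne
  set e := x₀ + f x₀ with he
  have hfix : ∀ x, f (x + f x) = x + f x := fun x => by rw [hadd, hff, add_comm]
  have he0 : e ≠ 0 := fun h => hx₀ (eq_neg_of_add_eq_zero_right h)
  obtain ⟨e', hne', he'⟩ : ∃ e', herm C e' e' ≠ 0 ∧ f e' = e' := by
    by_cases hee : herm C e e = 0
    swap
    · exact ⟨e, hee, hfix x₀⟩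
    obtain ⟨x, hx⟩ := exists_herm_right C he0
    set y := x + f x with hy
    have hey : herm C e y = 2 := by
      rw [hy, herm_add_right, hx]
      conv_lhs => rw [show e = f e from (hfix x₀).symm, hf, hx]
      norm_num
    by_cases hyy : herm C y y = 0
    swap
    · exact ⟨y, hyy, hfix x⟩
    obtain ⟨t, ht⟩ := exists_tr_eq C (c := (1 : F)) (map_one C.σ)
    refine ⟨y + t • e, ?_, by rw [hadd, hsmul, hfix, hfix]⟩
    simp only [herm_add_left, herm_add_right, herm_smul_left, herm_smul_right, hee, hyy, hey,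
      show herm C y e = 2 by rw [← conj_herm, hey]; exact map_ofNat C.σ 2]
    intro h
    exact h2 (by linear_combination h - (2 : F) * ht)
  obtain ⟨a, -, -, hu⟩ := exists_unit_smul C hne'
  exact ⟨_, hu, by rw [hsmul, he']⟩

theorem exists_fixed_app {ι : Type*} [Fintype ι] [DecidableEq ι] (h2 : (2 : F) ≠ 0) {z : suG C ι}
    (hz : z * z = 1) (hne : ∃ x, app C z x ≠ -x) : ∃ u, herm C u u = 1 ∧ app C z u = u :=
  exists_fixed_of_invol C h2 _ (app_add C z) (app_smul C z) (herm_app C z)
    (fun x => by rw [← app_mul, hz, app_one]) hne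

/-- A non-central involution of `SU_4` is conjugate to the block involution. -/
theorem exists_conj_inv0 (hq : C.q = 3) {s : suG C (Fin 4)} (hs : s * s = 1)
    (hnc : ∃ g, ¬ Commute g s) : ∃ g, g⁻¹ * s * g = inv0 C := by
  have h2 := two_ne_zero_of_three C hq
  have hne : ∃ x, app C s x ≠ -x := by
    by_contra! h
    obtain ⟨g, hg⟩ := hnc
    exact hg (suG_ext C fun x => by
      rw [app_mul, app_mul, h, h, ← neg_one_smul F x, app_smul, neg_one_smul])
  obtain ⟨u, hu, hsu⟩ := exists_fixed_app C h2 hs hne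
  obtain ⟨g, hg⟩ := exists_move C (by omega) (d := 4) (by omega) hu
  obtain ⟨y, hy⟩ := exists_tail C (k := 3) (by omega) (g := g⁻¹ * s * g) (by
    rw [app_mul, app_mul, hg, hsu, ← hg, app_inv_app])
  have hi := ext_injective C (win 4 1 3 (by omega : 1 + 3 ≤ 4))
  have hyy : y * y = 1 := hi (by
    show wext C 1 (by omega : 1 + 3 ≤ 4) (y * y) = wext C 1 (by omega : 1 + 3 ≤ 4) 1
    rw [map_mul, map_one, hy, show g⁻¹ * s * g * (g⁻¹ * s * g) = g⁻¹ * (s * s) * g by group, hs]
    group)
  have hy1 : y ≠ 1 := fun h => by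
    obtain ⟨g', hg'⟩ := hnc
    refine hg' ?_
    rw [h, map_one] at hy
    rw [show s = g * (g⁻¹ * s * g) * g⁻¹ by group, ← hy, mul_one, mul_inv_cancel]
    exact Commute.one_right _
  have hne' : ∃ x, app C y x ≠ -x := by
    by_contra! h
    have hm : y.1.1 = -1 := Matrix.ext_iff_mulVec.2 fun x => by
      rw [Matrix.neg_mulVec, Matrix.one_mulVec]; exact h x
    have hd := y.1.2
    rw [hm, Matrix.det_neg, Matrix.det_one, Fintype.card_fin] at hd
    exact h2 (by linear_combination -hd)
  obtain ⟨u', hu', hyu'⟩ := exists_fixed_app C h2 hyy hne'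
  obtain ⟨g', hg'⟩ := exists_move C (by omega) (d := 3) (by omega) hu'
  obtain ⟨z, hz⟩ := exists_loB C (g := g'⁻¹ * y * g') (by
    rw [app_mul, app_mul, hg', hyu', ← hg', app_inv_app])
  have hzz : z * z = 1 := loB_injective C (by
    rw [map_mul, map_one, hz, show g'⁻¹ * y * g' * (g'⁻¹ * y * g') = g'⁻¹ * (y * y) * g' by group, hyy]
    group)
  have hzm : z = mneg C := eq_mneg_of_sq C h2 hzz fun h => hy1 (by
    rw [h, map_one] at hz
    rw [show y = g' * (g'⁻¹ * y * g') * g'⁻¹ by group, ← hz, mul_one, mul_inv_cancel])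
  set W := g * wext C 1 (by omega : 1 + 3 ≤ 4) g' with hW
  have hB : W⁻¹ * s * W = B2 C (mneg C) := by
    rw [hW, _root_.mul_inv_rev, ← map_inv, mul_assoc _ g⁻¹, mul_assoc _ (g⁻¹ * s), ← mul_assoc (g⁻¹ * s) g,
      ← hy, ← map_mul, ← map_mul, ← mul_assoc, ← hz, hzm, loB, wext_wext]
    rfl
  refine ⟨W * (shift C * shift C), ?_⟩
  rw [_root_.mul_inv_rev W (shift C * shift C), mul_assoc _ W⁻¹, mul_assoc _ (W⁻¹ * s),
    ← mul_assoc (W⁻¹ * s) W, hB, ← conj_shift_sq_B0, inv_mul_cancel_left]
  rfl

section central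

variable {C} (hq : C.q = 3)
include hq

/-- A central element of `SU_4` is a fourth root of unity. -/
theorem central_scalar {k : suG C (Fin 4)} (hk : ∀ g, Commute g k) :
    ∃ l : F, l ^ 4 = 1 ∧ app C k (basv 4 0) = l • basv 4 0 ∧ app C k (basv 4 1) = l • basv 4 1 ∧
      app C k (basv 4 2) = l • basv 4 2 ∧ app C k (basv 4 3) = l • basv 4 3 := by
  obtain ⟨a, ha, hne⟩ := exists_norm_one_ne C (by omega)
  have ha1 : a ≠ 1 := fun e => hne (by rw [e, map_one])
  have ha1' : C.σ a ≠ 1 := fun e => ha1 (C.σ.injective (by rw [e, map_one]))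
  have hc : ∀ g x, app C g x = x → app C g (app C k x) = app C k x := fun g x hx => by
    rw [← app_mul, (hk g).eq, app_mul, hx]
  set v := app C k (basv 4 0) with hv
  have e1 := hc (B1 C (suTwo C a 0 (nm_torus C ha))) (basv 4 0) (by
    rw [app_B1, app_suTwo]; funext i; fin_cases i <;> simp [basv])
  have e2 := hc (B2 C (suTwo C a 0 (nm_torus C ha))) (basv 4 0) (by
    rw [app_B2, app_suTwo]; funext i; fin_cases i <;> simp [basv])
  rw [app_B1, app_suTwo] at e1
  rw [app_B2, app_suTwo] at e2
  have f1 := congrFun e1 1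
  have f2 := congrFun e1 2
  have f3 := congrFun e2 3
  simp at f1 f2 f3
  have v1 : v 1 = 0 := (mul_eq_zero.1 (show (a - 1) * v 1 = 0 by linear_combination f1)).resolve_left
    (sub_ne_zero.2 ha1)
  have v2 : v 2 = 0 := (mul_eq_zero.1 (show (C.σ a - 1) * v 2 = 0 by linear_combination f2)).resolve_left
    (sub_ne_zero.2 ha1')
  have v3 : v 3 = 0 := (mul_eq_zero.1 (show (C.σ a - 1) * v 3 = 0 by linear_combination f3)).resolve_left
    (sub_ne_zero.2 ha1')
  have h0 : v = v 0 • basv 4 0 := by
    funext i; fin_cases i <;> simp [basv, v1, v2, v3]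
  have htr : ∀ (g : suG C (Fin 4)) (x y : Fin 4 → F), app C g x = y → app C k x = v 0 • x →
      app C k y = v 0 • y := fun g x y hxy hx => by
    rw [← hxy, ← app_mul, ← (hk g).eq, app_mul, hx, app_smul]
  have hn : nm C (0 : F) + nm C 1 = 1 := by rw [nm_zero, zero_add, nm_one]
  have h1 := htr (B0 C (suTwo C 0 1 hn)) _ (basv 4 1) (by
    rw [app_B0, app_suTwo]; funext i; fin_cases i <;> simp [basv]) h0
  have h2 := htr (B1 C (suTwo C 0 1 hn)) _ (basv 4 2) (by
    rw [app_B1, app_suTwo]; funext i; fin_cases i <;> simp [basv]) h1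
  have h3 := htr (B2 C (suTwo C 0 1 hn)) _ (basv 4 3) (by
    rw [app_B2, app_suTwo]; funext i; fin_cases i <;> simp [basv]) h2
  refine ⟨v 0, ?_, h0, h1, h2, h3⟩
  have hu : herm C (basv 4 0 : Fin 4 → F) (basv 4 0) = 1 := herm_basv_self C (by omega)
  have := nm_of_unit_smul C (by rw [herm_app]; exact hu) hu h0
  rw [nm, C.pow, hq] at this
  rw [← this]; ring

/-- A central element fixing a basis vector is trivial. -/
theorem eq_one_of_central {k : suG C (Fin 4)} (hk : ∀ g, Commute g k) {i : ℕ} (hi : i < 4)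
    (hfix : app C k (basv 4 i) = basv 4 i) : k = 1 := by
  obtain ⟨l, -, h0, h1, h2, h3⟩ := central_scalar hq hk
  have hl : app C k (basv 4 i) = l • basv 4 i := by interval_cases i <;> assumption
  have : l = 1 := by
    have := congrFun (hfix.symm.trans hl) ⟨i, hi⟩
    simpa [basv] using this.symm
  subst this
  simp only [one_smul] at h0 h1 h2 h3
  exact ext_basv C (by rw [h0, app_one]) (by rw [h1, app_one]) (by rw [h2, app_one])
    (by rw [h3, app_one])

theorem central_pow_four {k : suG C (Fin 4)} (hk : ∀ g, Commute g k) : k ^ 4 = 1 := by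
  obtain ⟨l, hl, h0, h1, h2, h3⟩ := central_scalar hq hk
  have hp : ∀ (n : ℕ) (x : Fin 4 → F), app C k x = l • x → app C (k ^ n) x = l ^ n • x := by
    intro n x hx
    induction n with
    | zero => rw [pow_zero, pow_zero, app_one, one_smul]
    | succ n ih => rw [pow_succ, app_mul, hx, app_smul, ih, smul_smul, ← pow_succ']
  refine ext_basv C ?_ ?_ ?_ ?_
  · rw [hp 4 _ h0, hl, one_smul, app_one]
  · rw [hp 4 _ h1, hl, one_smul, app_one]
  · rw [hp 4 _ h2, hl, one_smul, app_one]
  · rw [hp 4 _ h3, hl, one_smul, app_one]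

end central

section eigen

theorem eq_smul_of_perp {u : suG C (Fin 2)} {z : Fin 2 → F}
    (h : herm C z (app C u (basv 2 0)) = 0) : ∃ c : F, z = c • app C u (basv 2 1) := by
  set y := app C u⁻¹ z with hy
  have e0 : y 0 = 0 := by
    have := herm_basv_right C y (i := 0) (by omega : 0 < 2)
    rw [hy, herm_app_left, h] at this
    exact this.symm
  refine ⟨y 1, ?_⟩
  rw [← app_app_inv C u z, ← hy, ← app_smul]
  congr 1
  funext i
  fin_cases i
  · simpa [basv] using e0
  · simp [basv]

/-- A non-scalar isometric involution of a plane has an orthonormal eigenbasis. -/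
theorem exists_eigen_frame (h2 : (2 : F) ≠ 0) (f : (Fin 2 → F) → (Fin 2 → F))
    (hadd : ∀ x y, f (x + y) = f x + f y) (hsmul : ∀ (a : F) x, f (a • x) = a • f x)
    (hf : ∀ x y, herm C (f x) (f y) = herm C x y) (hff : ∀ x, f (f x) = x)
    (hne : ∀ c : F, ∃ x, f x ≠ c • x) :
    ∃ u : suG C (Fin 2), f (app C u (basv 2 0)) = app C u (basv 2 0) ∧
      f (app C u (basv 2 1)) = -app C u (basv 2 1) := by
  obtain ⟨w, hw, hfw⟩ := exists_fixed_of_invol C h2 f hadd hsmul hf hff
    ((hne (-1)).imp fun x hx => by rwa [neg_one_smul] at hx)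
  have hn : nm C (w 0) + nm C (w 1) = 1 := by
    rw [← hw]; simp [herm, Fin.sum_univ_two, nm]
  set u := suTwo C (w 0) (w 1) hn with hu
  have h0 : app C u (basv 2 0) = w := by
    rw [hu, app_suTwo_zero]; funext i; fin_cases i <;> rfl
  refine ⟨u, by rw [h0, hfw], ?_⟩
  set p := app C u (basv 2 1) with hp
  obtain ⟨c, hc⟩ := eq_smul_of_perp C (u := u) (z := f p) (by
    rw [h0, ← hfw, hf, ← h0, hp, herm_app, herm_basv_ne C (by omega) (by omega)])
  rw [← hp] at hc
  have hcc : c * c = 1 := by
    have := congrArg f hc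
    rw [hff, hsmul, hc, smul_smul] at this
    have h1 := congrArg (fun z => herm C z p) this
    simp only [herm_smul_left, hp, herm_app, herm_basv_self C (show 1 < 2 by omega)] at h1
    linear_combination -h1
  rcases mul_self_eq_one_iff.1 hcc with h | h
  · exfalso
    obtain ⟨x, hx⟩ := hne 1
    apply hx
    have e : x = (app C u⁻¹ x) 0 • w + (app C u⁻¹ x) 1 • p := by
      conv_lhs => rw [← app_app_inv C u x]
      rw [← h0, hp, ← app_smul, ← app_smul, ← app_add]
      congr 1
      funext i; fin_cases i <;> simp [basv]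
    rw [one_smul, e, hadd, hsmul, hsmul, hfw, hc, h, one_smul]
  · rw [hc, h, neg_one_smul]

/-- The first two coordinates. -/
def tp (x : Fin 2 → F) : Fin 4 → F := ![x 0, x 1, 0, 0]

/-- The last two coordinates. -/
def bt (x : Fin 2 → F) : Fin 4 → F := ![0, 0, x 0, x 1]

theorem app_B0_tp (y : suG C (Fin 2)) (x : Fin 2 → F) : app C (B0 C y) (tp x) = tp (app C y x) := by
  have h : x = ![x 0, x 1] := by funext j; fin_cases j <;> rfl
  rw [app_B0, tp, tp]
  conv_rhs => rw [h]
  rfl

theorem app_B2_bt (y : suG C (Fin 2)) (x : Fin 2 → F) : app C (B2 C y) (bt x) = bt (app C y x) := by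
  have h : x = ![x 0, x 1] := by funext j; fin_cases j <;> rfl
  rw [app_B2, bt, bt]
  conv_rhs => rw [h]
  rfl

theorem app_B2_tp (y : suG C (Fin 2)) (x : Fin 2 → F) : app C (B2 C y) (tp x) = tp x := by
  have h0 : ∀ (a : F) (w : Fin 2 → F), a • app C y w = app C y (a • w) := fun a w => (app_smul C y a w).symm
  have hz : app C y ![0, 0] = 0 := by
    rw [show (![0, 0] : Fin 2 → F) = (0 : F) • ![0, 0] by simp, app_smul, zero_smul]
  rw [app_B2, tp]
  funext i
  fin_cases i <;> simp [hz]

theorem app_B0_bt (y : suG C (Fin 2)) (x : Fin 2 → F) : app C (B0 C y) (bt x) = bt x := by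
  have hz : app C y ![0, 0] = 0 := by
    rw [show (![0, 0] : Fin 2 → F) = (0 : F) • ![0, 0] by simp, app_smul, zero_smul]
  rw [app_B0, bt]
  funext i
  fin_cases i <;> simp [hz]

theorem decomp (x : Fin 4 → F) : x = tp ![x 0, x 1] + bt ![x 2, x 3] := by
  funext i; fin_cases i <;> simp [tp, bt]

/-- The action on the first two coordinates. -/
def topAct (s : suG C (Fin 4)) (x : Fin 2 → F) : Fin 2 → F :=
  ![app C s (tp x) 0, app C s (tp x) 1]

/-- The action on the last two coordinates. -/
def botAct (s : suG C (Fin 4)) (x : Fin 2 → F) : Fin 2 → F :=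
  ![app C s (bt x) 2, app C s (bt x) 3]

variable {C} (h2 : (2 : F) ≠ 0) {s : suG C (Fin 4)} (hs : Commute s (inv0 C))
include h2 hs

theorem app_tp (x : Fin 2 → F) : app C s (tp x) = tp (topAct C s x) := by
  have e : app C (inv0 C) (app C s (tp x)) = -app C s (tp x) := by
    rw [← app_mul, ← hs.eq, app_mul, show app C (inv0 C) (tp x) = (-1 : F) • tp x by
      rw [app_inv0]; funext i; fin_cases i <;> simp [tp], app_smul, neg_one_smul]
  rw [app_inv0] at e
  have e2 := congrFun e 2
  have e3 := congrFun e 3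
  simp at e2 e3
  have a2 : app C s (tp x) 2 = 0 := eq_zero_of_eq_neg h2 e2
  have a3 : app C s (tp x) 3 = 0 := eq_zero_of_eq_neg h2 e3
  funext i
  fin_cases i <;> simp [tp, topAct] at * <;> assumption

theorem app_bt (x : Fin 2 → F) : app C s (bt x) = bt (botAct C s x) := by
  have e : app C (inv0 C) (app C s (bt x)) = app C s (bt x) := by
    rw [← app_mul, ← hs.eq, app_mul, show app C (inv0 C) (bt x) = bt x by
      rw [app_inv0]; funext i; fin_cases i <;> simp [bt]]
  rw [app_inv0] at e
  have e0 := congrFun e 0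
  have e1 := congrFun e 1
  simp at e0 e1
  have a0 : app C s (bt x) 0 = 0 := eq_zero_of_eq_neg h2 e0.symm
  have a1 : app C s (bt x) 1 = 0 := eq_zero_of_eq_neg h2 e1.symm
  funext i
  fin_cases i <;> simp [bt, botAct] at * <;> assumption

theorem commute_B0_of_scalar {c : F} (hc : ∀ x, topAct C s x = c • x) (y : suG C (Fin 2)) :
    Commute s (B0 C y) := by
  refine suG_ext C fun x => ?_
  rw [decomp x, app_mul, app_mul, app_add, app_add, app_add, app_add, app_B0_tp, app_B0_bt,
    app_tp h2 hs, app_tp h2 hs, app_bt h2 hs, app_B0_tp, app_B0_bt, hc, hc, app_smul]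

theorem commute_B2_of_scalar {c : F} (hc : ∀ x, botAct C s x = c • x) (y : suG C (Fin 2)) :
    Commute s (B2 C y) := by
  refine suG_ext C fun x => ?_
  rw [decomp x, app_mul, app_mul, app_add, app_add, app_add, app_add, app_B2_tp, app_B2_bt,
    app_tp h2 hs, app_bt h2 hs, app_bt h2 hs, app_B2_tp, app_B2_bt, hc, hc, app_smul]

/-- An involution centralising the block involution and not the outer blocks is conjugate, inside the
outer blocks, to the middle involution. -/
theorem exists_outer_conj (hss : s * s = 1) (h0 : ∃ y, ¬ Commute s (B0 C y))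
    (h1 : ∃ y, ¬ Commute s (B2 C y)) :
    ∃ u u', (B0 C u * B2 C u')⁻¹ * s * (B0 C u * B2 C u') = B1 C (mneg C) := by
  have hsa : ∀ x, app C s (app C s x) = x := fun x => by rw [← app_mul, hss, app_one]
  have htp : ∀ x y : Fin 2 → F, herm C (tp x) (tp y) = herm C x y := fun x y => by
    simp [herm, tp, Fin.sum_univ_four, Fin.sum_univ_two]
  have hbt : ∀ x y : Fin 2 → F, herm C (bt x) (bt y) = herm C x y := fun x y => by
    simp [herm, bt, Fin.sum_univ_four, Fin.sum_univ_two]
  have tinj : ∀ x y : Fin 2 → F, tp x = tp y → x = y := fun x y h => by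
    have e0 := congrFun h 0
    have e1 := congrFun h 1
    simp [tp] at e0 e1
    funext i; fin_cases i <;> assumption
  have binj : ∀ x y : Fin 2 → F, bt x = bt y → x = y := fun x y h => by
    have e0 := congrFun h 2
    have e1 := congrFun h 3
    simp [bt] at e0 e1
    funext i; fin_cases i <;> assumption
  obtain ⟨u, hu0, hu1⟩ := exists_eigen_frame C h2 (topAct C s)
    (fun x y => tinj _ _ (by
      rw [← app_tp h2 hs, show tp (x + y) = tp x + tp y by funext i; fin_cases i <;> simp [tp],
        app_add, app_tp h2 hs, app_tp h2 hs]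
      funext i; fin_cases i <;> simp [tp]))
    (fun a x => tinj _ _ (by
      rw [← app_tp h2 hs, show tp (a • x) = a • tp x by funext i; fin_cases i <;> simp [tp],
        app_smul, app_tp h2 hs]
      funext i; fin_cases i <;> simp [tp]))
    (fun x y => by rw [← htp, ← app_tp h2 hs, ← app_tp h2 hs, herm_app, htp])
    (fun x => tinj _ _ (by rw [← app_tp h2 hs, ← app_tp h2 hs, hsa]))
    (fun c => by
      by_contra! h
      obtain ⟨y, hy⟩ := h0
      exact hy (commute_B0_of_scalar h2 hs h y))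
  obtain ⟨u₁, hv0, hv1⟩ := exists_eigen_frame C h2 (botAct C s)
    (fun x y => binj _ _ (by
      rw [← app_bt h2 hs, show bt (x + y) = bt x + bt y by funext i; fin_cases i <;> simp [bt],
        app_add, app_bt h2 hs, app_bt h2 hs]
      funext i; fin_cases i <;> simp [bt]))
    (fun a x => binj _ _ (by
      rw [← app_bt h2 hs, show bt (a • x) = a • bt x by funext i; fin_cases i <;> simp [bt],
        app_smul, app_bt h2 hs]
      funext i; fin_cases i <;> simp [bt]))
    (fun x y => by rw [← hbt, ← app_bt h2 hs, ← app_bt h2 hs, herm_app, hbt])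
    (fun x => binj _ _ (by rw [← app_bt h2 hs, ← app_bt h2 hs, hsa]))
    (fun c => by
      by_contra! h
      obtain ⟨y, hy⟩ := h1
      exact hy (commute_B2_of_scalar h2 hs h y))
  have hn : nm C (0 : F) + nm C 1 = 1 := by rw [nm_zero, zero_add, nm_one]
  set u' := u₁ * suTwo C 0 1 hn with hu'
  refine ⟨u, u', ?_⟩
  rw [mul_assoc, inv_mul_eq_iff_eq_mul]
  have k0 : app C u' (basv 2 0) = app C u₁ (basv 2 1) := by
    rw [hu', app_mul, app_suTwo_zero]; congr 1; funext i; fin_cases i <;> simp [basv]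
  have k1 : app C u' (basv 2 1) = -app C u₁ (basv 2 0) := by
    rw [hu', app_mul, app_suTwo, ← neg_one_smul F (app C u₁ (basv 2 0)), ← app_smul]
    congr 1; funext i; fin_cases i <;> simp [basv]
  set g := B0 C u * B2 C u' with hg
  have gt : ∀ x, app C g (tp x) = tp (app C u x) := fun x => by
    rw [hg, app_mul, app_B2_tp, app_B0_tp]
  have gb : ∀ x, app C g (bt x) = bt (app C u' x) := fun x => by
    rw [hg, app_mul, app_B2_bt, app_B0_bt]
  have m0 : app C (B1 C (mneg C)) (basv 4 0) = tp (basv 2 0) := by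
    rw [app_B1, app_mneg]; funext i; fin_cases i <;> simp [basv, tp]
  have m1 : app C (B1 C (mneg C)) (basv 4 1) = -tp (basv 2 1) := by
    rw [app_B1, app_mneg]; funext i; fin_cases i <;> simp [basv, tp]
  have m2 : app C (B1 C (mneg C)) (basv 4 2) = -bt (basv 2 0) := by
    rw [app_B1, app_mneg]; funext i; fin_cases i <;> simp [basv, bt]
  have m3 : app C (B1 C (mneg C)) (basv 4 3) = bt (basv 2 1) := by
    rw [app_B1, app_mneg]; funext i; fin_cases i <;> simp [basv, bt]
  have hneg : ∀ (z : suG C (Fin 4)) (x : Fin 4 → F), app C z (-x) = -app C z x := fun z x => by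
    rw [← neg_one_smul F x, app_smul, neg_one_smul]
  have tneg : ∀ x : Fin 2 → F, tp (-x) = -tp x := fun x => by
    funext i; fin_cases i <;> simp [tp]
  have bneg : ∀ x : Fin 2 → F, bt (-x) = -bt x := fun x => by
    funext i; fin_cases i <;> simp [bt]
  have hb : ∀ x : Fin 2 → F, botAct C s (-x) = -botAct C s x := fun x => binj _ _ (by
    rw [← app_bt h2 hs, bneg, bneg, ← app_bt h2 hs, hneg])
  refine ext_basv C ?_ ?_ ?_ ?_
  · rw [app_mul C s g, app_mul C g (B1 C (mneg C)), m0, show (basv 4 0 : Fin 4 → F) = tp (basv 2 0) by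
      funext i; fin_cases i <;> simp [basv, tp], gt, app_tp h2 hs, hu0]
  · rw [app_mul C s g, app_mul C g (B1 C (mneg C)), m1, hneg, show (basv 4 1 : Fin 4 → F) = tp (basv 2 1) by
      funext i; fin_cases i <;> simp [basv, tp], gt, app_tp h2 hs, hu1, tneg]
  · rw [app_mul C s g, app_mul C g (B1 C (mneg C)), m2, hneg, show (basv 4 2 : Fin 4 → F) = bt (basv 2 0) by
      funext i; fin_cases i <;> simp [basv, bt], gb, app_bt h2 hs, k0, hv1, bneg]
  · rw [app_mul C s g, app_mul C g (B1 C (mneg C)), m3, show (basv 4 3 : Fin 4 → F) = bt (basv 2 1) by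
      funext i; fin_cases i <;> simp [basv, bt], gb, app_bt h2 hs, k1, hb, hv0]

end eigen

end CfsgLib.Phan.Three
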