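import Cfsg.Agent.Phan.FixedVector
import Cfsg.Agent.Linear.Basic

/-!
# `SU_2` over nine elements as a binary tetrahedral group, and its central lifts
-/

set_option autoImplicit false
set_option linter.unusedSectionVars false

namespace CfsgLib.Phan.Three

open CfsgLib.RepBounds.Unit Matrix

/-- In a binary tetrahedral pair the central square has order at most two. -/
theorem pow_four_eq_one {H : Type*} [Group H] {x t : H} (ht : t ^ 3 = 1)
    (h : x * x = (x * t) ^ 3) (hc : Commute (x * x) t) : x ^ 4 = 1 := by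
  set u := x * t * x⁻¹ with hu
  have h1 : t * x * t * x * t = x := by
    have e : x * x = x * (t * x * t * x * t) := by
      rw [h, pow_succ, pow_succ, pow_one]; group
    exact (mul_left_cancel e).symm
  have h2 : t * x * t = u⁻¹ := by
    calc t * x * t = (t * x * t * x * t) * t⁻¹ * x⁻¹ := by group
      _ = u⁻¹ := by rw [h1, hu]; group
  have hx : x = t⁻¹ * u⁻¹ * t⁻¹ := by rw [← h2]; group
  have hxt : x * t = u * x := by rw [hu]; group
  have e1 : t⁻¹ * u⁻¹ = u * (t⁻¹ * u⁻¹ * t⁻¹) := by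
    calc t⁻¹ * u⁻¹ = (t⁻¹ * u⁻¹ * t⁻¹) * t := by group
      _ = u * (t⁻¹ * u⁻¹ * t⁻¹) := by rw [← hx]; exact hxt
  have ht2 : t⁻¹ * t⁻¹ = t := by
    rw [← _root_.mul_inv_rev]
    exact inv_eq_of_mul_eq_one_right (by rw [mul_assoc, ← pow_three]; exact ht)
  have hu2 : u⁻¹ * u⁻¹ = u := by
    calc u⁻¹ * u⁻¹ = x * (t⁻¹ * t⁻¹) * x⁻¹ := by rw [hu]; group
      _ = u := by rw [ht2, hu]
  set r := u * t⁻¹ with hr
  have hrr : x * x = r * r := by
    calc x * x = t⁻¹ * u⁻¹ * (t⁻¹ * t⁻¹) * u⁻¹ * t⁻¹ := by rw [hx]; group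
      _ = u * (t⁻¹ * u⁻¹ * t⁻¹) * t * u⁻¹ * t⁻¹ := by rw [ht2, ← e1]
      _ = u * t⁻¹ * (u⁻¹ * u⁻¹) * t⁻¹ := by group
      _ = r * r := by rw [hu2, hr]; group
  have hxu : x * u * x⁻¹ = t := by
    calc x * u * x⁻¹ = x * x * t * (x * x)⁻¹ := by rw [hu]; group
      _ = t := by rw [hc.eq]; group
  have hxr : x * r * x⁻¹ = r⁻¹ := by
    calc x * r * x⁻¹ = (x * u * x⁻¹) * (x * t⁻¹ * x⁻¹) := by rw [hr]; group
      _ = r⁻¹ := by rw [hxu, hr, hu]; group
  have e2 : x * (r * r) * x⁻¹ = r⁻¹ * r⁻¹ := by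
    calc x * (r * r) * x⁻¹ = (x * r * x⁻¹) * (x * r * x⁻¹) := by group
      _ = _ := by rw [hxr]
  rw [← hrr] at e2
  have e3 : x * x = r⁻¹ * r⁻¹ := by rw [← e2]; group
  calc x ^ 4 = (x * x) * (x * x) := by simp only [pow_succ, pow_zero, one_mul, mul_assoc]
    _ = (r * r) * (r⁻¹ * r⁻¹) := by rw [← hrr, ← e3]
    _ = 1 := by group

section lifts

variable {H G : Type*} [Group H] [Group G] (π : H →* G)

/-- The kernel is central of exponent dividing four. -/
structure CentralFour : Prop where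
  central : ∀ k, π k = 1 → ∀ g, Commute g k
  exp : ∀ k, π k = 1 → k ^ 4 = 1

variable {π}

theorem CentralFour.comp_conj (h : CentralFour π) (g : H) :
    CentralFour (π.comp (MulAut.conj g).toMonoidHom) := by
  constructor <;> intro k hk
  · intro g'
    have := h.central _ hk (g * g' * g⁻¹)
    exact (MulAut.conj g).injective (by simp only [map_mul]; exact this.eq)
  · have := h.exp _ hk
    rw [← map_pow] at this
    exact (MulAut.conj g).injective (this.trans (map_one _).symm)

theorem CentralFour.exists_central_mul (h : CentralFour π) {y y' : H} (e : π y = π y') :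
    ∃ k, y = y' * k ∧ π k = 1 ∧ (∀ g, Commute g k) ∧ k ^ 4 = 1 := by
  have hk : π (y'⁻¹ * y) = 1 := by rw [map_mul, map_inv, e, inv_mul_cancel]
  exact ⟨y'⁻¹ * y, by group, hk, h.central _ hk, h.exp _ hk⟩

theorem CentralFour.cube_unique (h : CentralFour π) {y y' : H} (e : π y = π y') (hy : y ^ 3 = 1)
    (hy' : y' ^ 3 = 1) : y = y' := by
  obtain ⟨k, rfl, -, hkc, hk4⟩ := h.exists_central_mul e
  have hk3 : k ^ 3 = 1 := by rwa [(hkc y').mul_pow, hy', one_mul] at hy
  rw [show k = 1 by rwa [pow_succ, hk3, one_mul] at hk4, mul_one]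

theorem CentralFour.exists_cube_lift (h : CentralFour π) {x : G} (hx : x ^ 3 = 1)
    (hmem : x ∈ π.range) : ∃ y, π y = x ∧ y ^ 3 = 1 := by
  obtain ⟨y, rfl⟩ := hmem
  refine ⟨y ^ 4, by rw [map_pow, pow_succ, hx, one_mul], ?_⟩
  rw [← pow_mul, show 4 * 3 = 3 * 4 from rfl, pow_mul]
  exact h.exp _ (by rw [map_pow, hx])

/-- A binary tetrahedral pair lifts with the same relations. -/
theorem CentralFour.exists_pair_lift (h : CentralFour π) {a t : G} (ha : a ∈ π.range)
    (htm : t ∈ π.range) (ht : t ^ 3 = 1) (hat : a * a = (a * t) ^ 3) (hc : Commute (a * a) t) :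
    ∃ x s, π x = a ∧ π s = t ∧ s ^ 3 = 1 ∧ x * x = (x * s) ^ 3 ∧ Commute (x * x) s ∧ x ^ 4 = 1 := by
  obtain ⟨s, hs, hs3⟩ := h.exists_cube_lift ht htm
  obtain ⟨x0, hx0⟩ := ha
  obtain ⟨k, hk, hk1, hkc, -⟩ := h.exists_central_mul (y := x0 * x0) (y' := (x0 * s) ^ 3) (by
    rw [map_mul, map_pow, map_mul, hx0, hs]; exact hat)
  have hx : π (x0 * k) = a := by rw [map_mul, hx0, hk1, mul_one]
  have hrel : x0 * k * (x0 * k) = (x0 * k * s) ^ 3 := by
    rw [show x0 * k * s = x0 * s * k by rw [mul_assoc, ← (hkc s).eq, ← mul_assoc],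
      (hkc (x0 * s)).mul_pow, (hkc x0).symm.mul_mul_mul_comm, hk]
    simp only [pow_succ, pow_zero, one_mul, mul_assoc]
  have hcs : Commute (x0 * k * (x0 * k)) s := by
    set z := x0 * k * (x0 * k) with hz
    have e : z * s * z⁻¹ = s := h.cube_unique (by
      rw [map_mul, map_mul, map_inv, hz, map_mul, hx, hs, hc.eq]; group)
      (by rw [conj_pow, hs3]; group) hs3
    exact mul_inv_eq_iff_eq_mul.1 e
  exact ⟨x0 * k, s, hx, hs, hs3, hrel, hcs, pow_four_eq_one hs3 hrel hcs⟩

end lifts

variable {F : Type*} [Field F] [Fintype F] (C : ConjField F)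

/-- The central involution of `SU_2`. -/
def mneg : suG C (Fin 2) := suTwo C (-1) 0 (by rw [nm_neg, nm_one, nm_zero, add_zero])

theorem app_mneg (x : Fin 2 → F) : app C (mneg C) x = -x := by
  rw [mneg, app_suTwo]; funext i; fin_cases i <;> simp

theorem mneg_comm (g : suG C (Fin 2)) : Commute g (mneg C) := suG_ext C fun x => by
  rw [app_mul, app_mul, app_mneg, app_mneg, ← neg_one_smul F x, app_smul, neg_one_smul]

theorem mneg_sq : mneg C * mneg C = 1 := suG_ext C fun x => by
  rw [app_mul, app_mneg, app_mneg, neg_neg, app_one]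

theorem two_ne_zero_of_three (hq : C.q = 3) : (2 : F) ≠ 0 := by
  intro h
  obtain ⟨p, hchar⟩ := CharP.exists F
  haveI : Fact p.Prime := ⟨CharP.char_is_prime F p⟩
  have h1 : p ∣ 2 := (CharP.cast_eq_zero_iff F p 2).1 (by exact_mod_cast h)
  have h2 : p ∣ 9 := (CharP.cast_eq_zero_iff F p 9).1 (by
    rw [show 9 = Fintype.card F by rw [C.card, hq]; rfl]; exact Nat.cast_card_eq_zero F)
  have := Nat.dvd_gcd h1 h2
  norm_num at this
  exact (Fact.out : p.Prime).ne_one this

theorem mneg_ne_one (h2 : (2 : F) ≠ 0) : mneg C ≠ 1 := fun h => h2 (by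
  have := congrFun (congrArg (fun z => app C z (basv 2 0)) h) 0
  simp [app_mneg, app_one, basv] at this
  linear_combination -this)

theorem eq_mneg_of_sq (h2 : (2 : F) ≠ 0) {y : suG C (Fin 2)} (hy : y * y = 1) (hy1 : y ≠ 1) :
    y = mneg C := by
  obtain ⟨h, he⟩ := eq_suTwo C y
  have e := eq_neg_one_of_sq C h2 hy hy1
  rw [he]
  exact suTwo_congr C _ _ (congrFun e 0) (congrFun e 1)

/-- The centre of `SU_2`. -/
theorem eq_pm_one_of_central (hq : 3 ≤ C.q) (h2 : (2 : F) ≠ 0) {z : suG C (Fin 2)}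
    (hz : ∀ g, Commute g z) : z = 1 ∨ z = mneg C := by
  obtain ⟨a, ha, hne⟩ := exists_norm_one_ne C hq
  obtain ⟨h, he⟩ := eq_suTwo C z
  set x := app C z (basv 2 0) 0
  set y := app C z (basv 2 0) 1
  have h01 : nm C 0 + nm C 1 = 1 := by rw [nm_zero, zero_add, nm_one]
  have e1 := congrArg (fun w => app C w (basv 2 0)) (hz (suTwo C a 0 (nm_torus C ha))).eq
  have e2 := congrArg (fun w => app C w (basv 2 0)) (hz (suTwo C 0 1 h01)).eq
  rw [he] at e1 e2
  simp only [app_mul, app_suTwo_zero] at e1 e2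
  have e11 := congrFun e1 1
  have e20 := congrFun e2 0
  have e21 := congrFun e2 1
  simp [app_suTwo] at e11 e20 e21
  have hy : y = 0 := by
    rcases mul_eq_zero.1 (show y * (C.σ a - a) = 0 by linear_combination e11) with h | h
    · exact h
    · exact absurd (sub_eq_zero.1 h) hne
  have hx : x * x = 1 := by
    simp only [nm, hy, map_zero, mul_zero, add_zero] at h
    linear_combination x * e21 + h
  have hn : ∀ w : F, w * w = 1 → C.σ w = w → nm C w + nm C 0 = 1 := fun w hw hw' => by
    rw [nm_zero, add_zero, nm, hw', hw]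
  rcases mul_self_eq_one_iff.1 hx with e | e
  · left
    rw [he, suTwo_congr C _ (hn 1 (one_mul 1) (map_one _)) e hy, suTwo_one_torus]
  · right
    rw [he]
    exact suTwo_congr C _ _ e hy

theorem card_suTwo (hq : C.q = 3) : Nat.card (suG C (Fin 2)) = 24 := by
  classical
  obtain ⟨-, e, -⟩ := exists_equiv C
  haveI : Fintype (fixField C) := Fintype.ofFinite _
  rw [Nat.card_congr e.toEquiv, CfsgLib.Linear.card_SL_two]
  have : Fintype.card (fixField C) = 3 := by
    rw [← Nat.card_eq_fintype_card, ← hq, ← card_fixed C, ← Fintype.card_subtype,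
      ← Nat.card_eq_fintype_card]
    exact Nat.card_congr (Equiv.subtypeEquivRight fun x => mem_fixField C)
  rw [this]
  norm_num

theorem eq_top_of_index_two_aux {K : Type*} [Group K] [Finite K] {x t : K}
    (hgen : Subgroup.closure {t, x * t * x⁻¹} = ⊤) (ht : t ^ 3 = 1) (M : Subgroup K)
    (hM : M.index ≤ 2) : M = ⊤ := by
  rcases (show M.index = 0 ∨ M.index = 1 ∨ M.index = 2 by omega) with h | h | h
  · exact absurd h Subgroup.FiniteIndex.index_ne_zero
  · exact Subgroup.index_eq_one.1 h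
  · rw [eq_top_iff, ← hgen, Subgroup.closure_le]
    have key : ∀ s : K, s ^ 3 = 1 → s ∈ M := fun s hs => by
      have := Subgroup.sq_mem_of_index_two h (s ^ 2)
      rwa [← pow_mul, show 2 * 2 = 3 + 1 from rfl, pow_succ, hs, one_mul] at this
    rintro s (rfl | rfl)
    · exact key _ ht
    · exact key _ (by rw [conj_pow, ht]; group)

/-- Generators of `SU_2` over nine elements. -/
theorem exists_tetra (hq : C.q = 3) :
    ∃ x t : suG C (Fin 2), Subgroup.closure {x, t} = ⊤ ∧ Subgroup.closure {t, x * t * x⁻¹} = ⊤ ∧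
      t ^ 3 = 1 ∧ x * x = (x * t) ^ 3 ∧ x * x = mneg C := by
  classical
  obtain ⟨-, e, -⟩ := exists_equiv C
  haveI : Fintype (fixField C) := Fintype.ofFinite _
  have hK3 : Fintype.card (fixField C) = 3 := by
    rw [← Nat.card_eq_fintype_card, ← hq, ← card_fixed C, ← Fintype.card_subtype,
      ← Nat.card_eq_fintype_card]
    exact Nat.card_congr (Equiv.subtypeEquivRight fun x => mem_fixField C)
  have h3 : (3 : fixField C) = 0 := by
    rw [← Nat.cast_card_eq_zero (R := fixField C), hK3]; rfl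
  have hcov : ∀ c : fixField C, ∃ n : ℕ, c = n := by
    intro c
    have h2K : (2 : fixField C) ≠ 0 := fun e => one_ne_zero (α := fixField C) (by linear_combination h3 - e)
    have hS : ({0, 1, 2} : Finset (fixField C)) = Finset.univ := by
      refine Finset.eq_univ_of_card _ ?_
      rw [hK3, Finset.card_insert_of_notMem (by simp [Ne.symm h2K]), Finset.card_pair]
      exact fun e => one_ne_zero (α := fixField C) (by linear_combination -e)
    have := hS ▸ Finset.mem_univ c
    simp only [Finset.mem_insert, Finset.mem_singleton] at this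
    rcases this with rfl | rfl | rfl
    · exact ⟨0, Nat.cast_zero.symm⟩
    · exact ⟨1, Nat.cast_one.symm⟩
    · exact ⟨2, (Nat.cast_ofNat).symm⟩
  let J : SpecialLinearGroup (Fin 2) (fixField C) :=
    ⟨!![0, -1; 1, 0], by rw [Matrix.det_fin_two_of]; ring⟩
  let T : SpecialLinearGroup (Fin 2) (fixField C) :=
    SpecialLinearGroup.transvection (zero_ne_one : (0 : Fin 2) ≠ 1) 1
  have hT : ∀ n : ℕ, T ^ n = SpecialLinearGroup.transvection zero_ne_one (n : fixField C) := fun n => by
    rw [transvection_pow, mul_one]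
  have hJ : ∀ c, J * SpecialLinearGroup.transvection zero_ne_one c * J⁻¹ =
      SpecialLinearGroup.transvection (one_ne_zero : (1 : Fin 2) ≠ 0) (-c) := fun c => by
    rw [mul_inv_eq_iff_eq_mul]
    apply Subtype.ext
    show J.1 * (SpecialLinearGroup.transvection zero_ne_one c).1 =
      (SpecialLinearGroup.transvection one_ne_zero (-c)).1 * J.1
    rw [SpecialLinearGroup.transvection_coe, SpecialLinearGroup.transvection_coe]
    ext i j
    fin_cases i <;> fin_cases j <;>
      simp [J, Matrix.mul_apply, Fin.sum_univ_two, Matrix.single]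
  have hgen : Subgroup.closure ({T, J * T * J⁻¹} : Set (SpecialLinearGroup (Fin 2) (fixField C))) = ⊤ := by
    rw [eq_top_iff]
    intro A _
    refine Matrix.SL2.transvection_induction (P := fun A : SpecialLinearGroup (Fin 2) (fixField C) =>
      A ∈ Subgroup.closure ({T, J * T * J⁻¹} : Set (SpecialLinearGroup (Fin 2) (fixField C))))
      (fun i j h c => ?_) (fun _ _ => mul_mem) A
    fin_cases i <;> fin_cases j <;> (try exact absurd rfl h)
    · obtain ⟨n, rfl⟩ := hcov c
      show SpecialLinearGroup.transvection (zero_ne_one : (0 : Fin 2) ≠ 1) (n : fixField C) ∈ Subgroup.closure _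
      rw [← hT]
      exact pow_mem (Subgroup.subset_closure (Set.mem_insert _ _)) n
    · obtain ⟨n, hn⟩ := hcov (-c)
      show SpecialLinearGroup.transvection (one_ne_zero : (1 : Fin 2) ≠ 0) c ∈ Subgroup.closure _
      rw [← neg_neg c, hn, ← hJ, ← hT, ← conj_pow]
      exact pow_mem (Subgroup.subset_closure (Set.mem_insert_of_mem _ (Set.mem_singleton _))) n
  have hJJ : J * J = (J * T) ^ 3 := by
    apply Subtype.ext
    rw [pow_three]
    show J.1 * J.1 = J.1 * T.1 * (J.1 * T.1 * (J.1 * T.1))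
    rw [show T.1 = !![1, 1; 0, 1] by
      ext i j; fin_cases i <;> fin_cases j <;> simp [T, SpecialLinearGroup.transvection_coe, Matrix.single]]
    ext i j
    fin_cases i <;> fin_cases j <;> simp [J, Matrix.mul_apply, Fin.sum_univ_two]
  have hJ2 : J * J * (J * J) = 1 := by
    apply Subtype.ext
    show J.1 * J.1 * (J.1 * J.1) = 1
    ext i j
    fin_cases i <;> fin_cases j <;> simp [J, Matrix.mul_apply, Fin.sum_univ_two]
  have hJne : J * J ≠ 1 := fun h => by
    have : (J.1 * J.1) 0 0 = (1 : Matrix (Fin 2) (Fin 2) (fixField C)) 0 0 :=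
      congrArg (fun g : SpecialLinearGroup (Fin 2) (fixField C) => g.1 0 0) h
    simp [J, Matrix.mul_apply, Fin.sum_univ_two] at this
    exact one_ne_zero (α := fixField C) (by linear_combination h3 + this)
  have h2 := two_ne_zero_of_three C hq
  have hxx : e.symm J * e.symm J = mneg C := eq_mneg_of_sq C h2
    (by rw [← map_mul, ← map_mul, hJ2, map_one])
    (fun h => hJne (e.symm.injective (by rw [map_mul, h, map_one])))
  have hgen' : Subgroup.closure {e.symm T, e.symm J * e.symm T * (e.symm J)⁻¹} = ⊤ := by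
    rw [← Subgroup.map_top_of_surjective e.symm.toMonoidHom e.symm.surjective, ← hgen,
      MonoidHom.map_closure, Set.image_pair]
    simp
  refine ⟨e.symm J, e.symm T, ?_, hgen', ?_, ?_, hxx⟩
  · rw [eq_top_iff, ← hgen', Subgroup.closure_le]
    rintro s (rfl | rfl)
    · exact Subgroup.subset_closure (Or.inr rfl)
    · exact mul_mem (mul_mem (Subgroup.subset_closure (Or.inl rfl))
        (Subgroup.subset_closure (Or.inr rfl))) (inv_mem (Subgroup.subset_closure (Or.inl rfl)))
  · rw [← map_pow, hT, Nat.cast_ofNat, h3, SpecialLinearGroup.transvection_coeff_zero, map_one]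
  · rw [← map_mul, hJJ, map_pow, map_mul]

/-- An element of order four and one of order three generate `SU_2`. -/
theorem closure_eq_top (hq : C.q = 3) {A T : suG C (Fin 2)} (hA : A * A = mneg C) (hT : T ^ 3 = 1)
    (hT1 : T ≠ 1) : Subgroup.closure {A, T} = ⊤ := by
  have h2 := two_ne_zero_of_three C hq
  set M := Subgroup.closure {A, T} with hM
  have oA : orderOf A = 4 := by
    refine orderOf_eq_prime_pow (p := 2) (n := 1) (fun h => mneg_ne_one C h2 ?_) ?_
    · rw [← hA, ← pow_two]; simpa using h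
    · rw [show 2 ^ (1 + 1) = 2 * 2 from rfl, pow_mul, pow_two, pow_two, hA, mneg_sq]
  have oT : orderOf T = 3 := orderOf_eq_prime (hp := ⟨Nat.prime_three⟩) hT hT1
  have d4 : 4 ∣ Nat.card M := oA ▸ Subgroup.orderOf_dvd_natCard _ (Subgroup.subset_closure (Or.inl rfl))
  have d3 : 3 ∣ Nat.card M := oT ▸ Subgroup.orderOf_dvd_natCard _ (Subgroup.subset_closure (Or.inr rfl))
  have d12 : 12 ∣ Nat.card M := Nat.Coprime.mul_dvd_of_dvd_of_dvd (by norm_num) d4 d3
  have hmul := M.card_mul_index
  rw [card_suTwo C hq] at hmul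
  obtain ⟨k, hk⟩ := d12
  obtain ⟨x, t, -, hgen, ht, -⟩ := exists_tetra C hq
  refine eq_top_of_index_two_aux hgen ht M ?_
  rw [hk] at hmul
  rcases k with _ | k
  · simp at hmul
  · nlinarith

end CfsgLib.Phan.Three
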